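import Groth.Agent.H29CSA.Split
import Mathlib.LinearAlgebra.Eigenspace.Minpoly
import Mathlib.RingTheory.PowerBasis
import Mathlib.RingTheory.Adjoin.Polynomial.Basic
import Mathlib.RingTheory.Flat.Basic
import Mathlib.FieldTheory.Separable

/-! # Separable elements of maximal degree in central simple algebras -/

set_option autoImplicit false

universe u v w

open TensorProduct Polynomial

namespace H18Az.Separable

section Adjoin

variable {k : Type u} [Field k] {B : Type v} [Ring B] [Algebra k B]

theorem adjoin_toSubmodule_eq_span {x : B} (hx : IsIntegral k x) :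
    Subalgebra.toSubmodule (Algebra.adjoin k {x}) =
      Submodule.span k (Set.range fun i : Fin (minpoly k x).natDegree => x ^ (i : ℕ)) := by
  refine le_antisymm (fun y hy => ?_) (Submodule.span_le.mpr ?_)
  · rw [Subalgebra.mem_toSubmodule, Algebra.adjoin_singleton_eq_range_aeval] at hy
    obtain ⟨p, rfl⟩ := hy
    have h1 : aeval x p = aeval x (p %ₘ minpoly k x) := by
      conv_lhs => rw [← modByMonic_add_div p (minpoly k x)]
      simp
    show aeval x p ∈ _
    rw [h1]
    rcases eq_or_ne (p %ₘ minpoly k x) 0 with h0 | h0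
    · rw [h0, map_zero]
      exact zero_mem _
    rw [aeval_eq_sum_range' (n := (minpoly k x).natDegree) ?_]
    · exact Submodule.sum_mem _ fun i hi => Submodule.smul_mem _ _
        (Submodule.subset_span ⟨⟨i, Finset.mem_range.mp hi⟩, rfl⟩)
    · exact (natDegree_lt_natDegree_iff h0).mpr (degree_modByMonic_lt _ (minpoly.monic hx))
  · rintro _ ⟨i, rfl⟩
    exact pow_mem (Algebra.self_mem_adjoin_singleton k x) _

theorem finrank_adjoin {x : B} (hx : IsIntegral k x) :
    Module.finrank k (Algebra.adjoin k {x}) = (minpoly k x).natDegree := by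
  show Module.finrank k (Subalgebra.toSubmodule (Algebra.adjoin k {x})) = _
  rw [adjoin_toSubmodule_eq_span hx, finrank_span_eq_card (linearIndependent_pow x),
    Fintype.card_fin]

theorem separable_minpoly_of_adjoin {x : B}
    (h : Algebra.IsSeparable k (Algebra.adjoin k ({x} : Set B))) : (minpoly k x).Separable := by
  have h1 := Algebra.IsSeparable.isSeparable' (F := k)
    (⟨x, Algebra.self_mem_adjoin_singleton k x⟩ : Algebra.adjoin k ({x} : Set B))
  rwa [IsSeparable, ← minpoly.algHom_eq (Algebra.adjoin k ({x} : Set B)).val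
    Subtype.val_injective] at h1

theorem minpoly_baseChange (K : Type w) [Field K] [Algebra k K] {x : B} (hx : IsIntegral k x) :
    minpoly K ((1 : K) ⊗ₜ[k] x) = (minpoly k x).map (algebraMap k K) := by
  set y : K ⊗[k] B := (1 : K) ⊗ₜ[k] x with hy
  have hpow : LinearIndependent K fun i : Fin (minpoly k x).natDegree => y ^ (i : ℕ) := by
    have e2 : (fun i : Fin (minpoly k x).natDegree => y ^ (i : ℕ)) =
        fun i : Fin (minpoly k x).natDegree => (1 : K) ⊗ₜ[k] (x ^ (i : ℕ)) := funext fun i => by
      rw [hy, Algebra.TensorProduct.tmul_pow, one_pow]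
    rw [e2]
    exact Module.Flat.linearIndependent_one_tmul (linearIndependent_pow x)
  have h0 : aeval y ((minpoly k x).map (algebraMap k K)) = 0 := by
    rw [aeval_map_algebraMap, hy,
      show ((1 : K) ⊗ₜ[k] x) = Algebra.TensorProduct.includeRight (R := k) (A := K) x from rfl,
      aeval_algHom_apply, minpoly.aeval, map_zero]
  refine (minpoly.unique' K y ((minpoly.monic hx).map _) h0
    fun q hq => or_iff_not_imp_left.mpr fun hq0 hqa => hq0 ?_).symm
  rw [degree_map, degree_eq_natDegree (minpoly.ne_zero hx)] at hq
  rw [Fintype.linearIndependent_iff] at hpow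
  ext j
  by_cases hj : j < (minpoly k x).natDegree
  · refine (hpow (fun i => q.coeff i) ?_ ⟨j, hj⟩).trans (coeff_zero j).symm
    rw [← hqa]
    rcases eq_or_ne q 0 with h0 | h0
    · simp [h0]
    rw [aeval_eq_sum_range' (n := (minpoly k x).natDegree)
      (by rwa [degree_eq_natDegree h0, Nat.cast_lt] at hq), Finset.sum_range]
  · rw [coeff_zero, coeff_eq_zero_of_degree_lt]
    exact hq.trans_le (Nat.cast_le.mpr (not_lt.mp hj))

theorem separable_of_mem_adjoin {x : B} (hx : IsIntegral k x) (hsep : (minpoly k x).Separable) :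
    Algebra.IsSeparable k (Algebra.adjoin k ({x} : Set B)) := by
  classical
  refine ⟨fun z => ?_⟩
  obtain ⟨q, hq⟩ : ∃ q : k[X], aeval x q = (z : B) :=
    (SetLike.ext_iff.mp (Algebra.adjoin_singleton_eq_range_aeval k x) (z : B)).mp z.2
  show (minpoly k z).Separable
  rw [← minpoly.algHom_eq (Algebra.adjoin k ({x} : Set B)).val Subtype.val_injective]
  show (minpoly k (z : B)).Separable
  rw [← hq]
  let K := AlgebraicClosure k
  let p := (minpoly k x).map (algebraMap k K)
  let S : Finset K := p.roots.toFinset.image fun c => (q.map (algebraMap k K)).eval c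
  let P : K[X] := ∏ c ∈ S, (X - C c)
  have hPsep : P.Separable :=
    separable_prod' (fun a _ b _ hab => isCoprime_X_sub_C_of_isUnit_sub
      (sub_ne_zero.mpr hab).isUnit) fun a _ => separable_X_sub_C
  have hdvd : p ∣ P.comp (q.map (algebraMap k K)) := by
    have hps : p.Separable := hsep.map
    rcases eq_or_ne (P.comp (q.map (algebraMap k K))) 0 with h0 | h0
    · rw [h0]
      exact dvd_zero _
    refine (IsAlgClosed.splits p).dvd_of_roots_le_roots ((minpoly.monic hx).map _).ne_zero ?_
    refine (Multiset.le_iff_subset (nodup_roots hps)).mpr fun c hc => ?_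
    rw [mem_roots h0, IsRoot.def, eval_comp, eval_prod]
    refine Finset.prod_eq_zero (Finset.mem_image.mpr ⟨c, Multiset.mem_toFinset.mpr hc, rfl⟩) ?_
    rw [eval_sub, eval_X, eval_C, sub_self]
  have hzero : aeval ((1 : K) ⊗ₜ[k] aeval x q) P = 0 := by
    have h1 : (1 : K) ⊗ₜ[k] aeval x q = aeval ((1 : K) ⊗ₜ[k] x) (q.map (algebraMap k K)) := by
      rw [aeval_map_algebraMap,
        show ((1 : K) ⊗ₜ[k] x) = Algebra.TensorProduct.includeRight (R := k) (A := K) x from rfl,
        aeval_algHom_apply]
      rfl
    rw [h1, ← aeval_comp]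
    obtain ⟨r, hr⟩ := hdvd
    rw [hr, map_mul, show p = minpoly K ((1 : K) ⊗ₜ[k] x) from (minpoly_baseChange K hx).symm,
      minpoly.aeval, zero_mul]
  have hz : IsIntegral k (aeval x q) := by
    haveI : Module.Finite k (Algebra.adjoin k ({x} : Set B)) := by
      show Module.Finite k (Subalgebra.toSubmodule (Algebra.adjoin k ({x} : Set B)))
      refine Module.Finite.iff_fg.mpr ?_
      rw [adjoin_toSubmodule_eq_span hx]
      exact Submodule.fg_span (Set.finite_range _)
    rw [hq]
    exact (Algebra.IsIntegral.isIntegral (R := k) z).map (Algebra.adjoin k ({x} : Set B)).val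
  have hd := minpoly.dvd K _ hzero
  rw [minpoly_baseChange K hz] at hd
  exact (separable_map (algebraMap k K)).mp (hPsep.of_dvd hd)

end Adjoin

section Eigen

variable {K : Type w} [Field K] [IsAlgClosed K] {V : Type v} [AddCommGroup V] [Module K V]
  [FiniteDimensional K V]

theorem finrank_commutant_le (f : Module.End K V) (hsep : (minpoly K f).Separable)
    (hdeg : (minpoly K f).natDegree = Module.finrank K V)
    (S : Submodule K (Module.End K V)) (hS : ∀ g ∈ S, g * f = f * g) :
    Module.finrank K S ≤ Module.finrank K V := by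
  classical
  let ι := (minpoly K f).rootSet K
  have hcard : Fintype.card ι = Module.finrank K V := by
    rw [← hdeg]
    exact card_rootSet_eq_natDegree hsep (IsAlgClosed.splits _)
  have hev : ∀ μ : ι, ∃ v, f.HasEigenvector (μ : K) v := fun μ => by
    refine (Module.End.hasEigenvalue_of_isRoot ?_).exists_hasEigenvector
    have h := (mem_rootSet.mp μ.2).2
    rwa [coe_aeval_eq_eval] at h
  choose v hv using hev
  have hli : LinearIndependent K v :=
    f.eigenvectors_linearIndependent' (fun μ : ι => (μ : K)) Subtype.coe_injective v hv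
  let b : Module.Basis ι K V := Module.Basis.mk hli (by
    rw [hli.span_eq_top_of_card_eq_finrank' hcard])
  have hb : ∀ i, b i = v i := fun i => Module.Basis.mk_apply _ _ _
  have hdiag : ∀ g ∈ S, ∀ μ ν : ι, μ ≠ ν → b.repr (g (b μ)) ν = 0 := by
    intro g hg μ ν hne
    have h1 : f (g (b μ)) = (μ : K) • g (b μ) := by
      rw [← Module.End.mul_apply, ← hS g hg, Module.End.mul_apply, hb, (hv μ).apply_eq_smul,
        map_smul]
    have h3 : ∀ y, b.repr (f y) ν = (ν : K) * b.repr y ν := by
      intro y
      have h4 : (b.coord ν) ∘ₗ f = (ν : K) • b.coord ν := b.ext fun j => by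
        simp only [LinearMap.comp_apply, Module.Basis.coord_apply, LinearMap.smul_apply,
          smul_eq_mul]
        rw [hb, (hv j).apply_eq_smul, map_smul, ← hb, Module.Basis.repr_self,
          Finsupp.smul_apply, smul_eq_mul]
        rcases eq_or_ne j ν with rfl | hjν
        · rfl
        · simp [Finsupp.single_eq_of_ne hjν.symm]
      exact LinearMap.congr_fun h4 y
    have h2 := congrArg (fun y => b.repr y ν) h1
    simp only [map_smul, Finsupp.smul_apply, smul_eq_mul, h3] at h2
    by_contra hne0
    exact hne (Subtype.ext (mul_right_cancel₀ hne0 h2).symm)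
  let Φ : S →ₗ[K] ι → K :=
    { toFun := fun g μ => b.repr ((g : Module.End K V) (b μ)) μ
      map_add' := fun g h => by ext μ; simp
      map_smul' := fun c g => by ext μ; simp }
  have hΦ : Function.Injective Φ := by
    rw [injective_iff_map_eq_zero]
    intro g hg
    refine Subtype.ext (b.ext fun μ => b.repr.injective (Finsupp.ext fun ν => ?_))
    rcases eq_or_ne μ ν with rfl | hne
    · simpa [Φ] using congrFun hg μ
    · simp [hdiag _ g.2 μ ν hne]
  calc Module.finrank K S ≤ Module.finrank K (ι → K) := LinearMap.finrank_le_finrank_of_injective hΦ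
    _ = _ := by rw [Module.finrank_pi, hcard]

end Eigen

section Centralizer

variable {k : Type u} [Field k] {B : Type v} [Ring B] [Algebra k B] [Algebra.IsCentral k B]
  [IsSimpleRing B] [FiniteDimensional k B]

/-- A separable element of degree `r` in a central simple algebra of dimension `r²` generates its
own centralizer. -/
theorem centralizer_eq_adjoin {r : ℕ} (hB : Module.finrank k B = r ^ 2) (x : B)
    (hsep : (minpoly k x).Separable) (hdeg : (minpoly k x).natDegree = r) :
    Subalgebra.centralizer k ({x} : Set B) = Algebra.adjoin k {x} := by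
  have hx : IsIntegral k x := Algebra.IsIntegral.isIntegral x
  have hle : Algebra.adjoin k {x} ≤ Subalgebra.centralizer k ({x} : Set B) := by
    rw [Algebra.adjoin_le_iff, Set.singleton_subset_iff]
    rw [SetLike.mem_coe, Subalgebra.mem_centralizer_iff]
    rintro g rfl
    rfl
  refine (Subalgebra.eq_of_le_of_finrank_le hle ?_).symm
  rw [finrank_adjoin hx, hdeg]
  let K := AlgebraicClosure k
  obtain ⟨n, hn, ⟨e⟩⟩ := Groth.Agent.H29CSA.exists_splits_of_isAlgClosed (k := k) B K
  have hnr : n = r := by
    have := (Groth.Agent.H29CSA.finrank_eq_sq_of_splits B K e).symm.trans hB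
    exact Nat.pow_left_injective two_ne_zero this
  subst hnr
  let E : K ⊗[k] B ≃ₐ[K] Module.End K (Fin n → K) := e.trans algEquivMatrix'.symm
  let f := E ((1 : K) ⊗ₜ[k] x)
  let p := (minpoly k x).map (algebraMap k K)
  have hp0 : aeval f p = 0 := by
    rw [aeval_algHom_apply, aeval_map_algebraMap,
      show ((1 : K) ⊗ₜ[k] x) = Algebra.TensorProduct.includeRight (R := k) (A := K) x from rfl,
      aeval_algHom_apply, minpoly.aeval, map_zero, map_zero]
  have hpow : LinearIndependent K fun i : Fin (minpoly k x).natDegree => f ^ (i : ℕ) := by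
    have h := (Module.Flat.linearIndependent_one_tmul (S := K) (linearIndependent_pow (K := k) x)).map'
      E.toLinearEquiv.toLinearMap E.toLinearEquiv.ker
    have e2 : (fun i : Fin (minpoly k x).natDegree => f ^ (i : ℕ)) =
        E.toLinearEquiv.toLinearMap ∘ fun i : Fin (minpoly k x).natDegree => (1 : K) ⊗ₜ[k] (x ^ (i : ℕ)) := by
      funext i
      show f ^ (i : ℕ) = E ((1 : K) ⊗ₜ[k] (x ^ (i : ℕ)))
      rw [← map_pow, Algebra.TensorProduct.tmul_pow, one_pow]
    rw [e2]
    exact h
  have hpm : p.Monic := (minpoly.monic hx).map _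
  have hmin : minpoly K f = p := by
    refine (minpoly.unique' K f hpm hp0 fun q hq => or_iff_not_imp_left.mpr fun hq0 hqa => hq0 ?_).symm
    rw [degree_map, degree_eq_natDegree (minpoly.ne_zero hx)] at hq
    rw [Fintype.linearIndependent_iff] at hpow
    ext j
    by_cases hj : j < (minpoly k x).natDegree
    · refine (hpow (fun i => q.coeff i) ?_ ⟨j, hj⟩).trans (coeff_zero j).symm
      rw [← hqa]
      rcases eq_or_ne q 0 with h0 | h0
      · simp [h0]
      rw [aeval_eq_sum_range' (n := (minpoly k x).natDegree)
        (by rwa [degree_eq_natDegree h0, Nat.cast_lt] at hq), Finset.sum_range]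
    · rw [coeff_zero, coeff_eq_zero_of_degree_lt]
      exact hq.trans_le (Nat.cast_le.mpr (not_lt.mp hj))
  let C := Subalgebra.centralizer k ({x} : Set B)
  let ι : K ⊗[k] (Subalgebra.toSubmodule C) →ₗ[K] Module.End K (Fin n → K) :=
    E.toLinearEquiv.toLinearMap ∘ₗ (Subalgebra.toSubmodule C).subtype.baseChange K
  have hι : Function.Injective ι := E.injective.comp
    (Module.Flat.lTensor_preserves_injective_linearMap (M := K) _ (Submodule.subtype_injective _))
  have hcomm : ∀ g ∈ LinearMap.range ι, g * f = f * g := by
    rintro _ ⟨z, rfl⟩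
    induction z using TensorProduct.induction_on with
    | zero => simp
    | add a b ha hb => rw [map_add, add_mul, mul_add, ha, hb]
    | tmul c y =>
      show E (c ⊗ₜ[k] (y : B)) * f = f * E (c ⊗ₜ[k] (y : B))
      rw [← map_mul, ← map_mul, Algebra.TensorProduct.tmul_mul_tmul,
        Algebra.TensorProduct.tmul_mul_tmul, mul_one, one_mul,
        (Subalgebra.mem_centralizer_iff k).mp y.2 x rfl]
  have h := finrank_commutant_le f (by rw [hmin]; exact hsep.map)
    (by rw [hmin, natDegree_map, hdeg, Module.finrank_fin_fun]) (LinearMap.range ι) hcomm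
  rw [LinearMap.finrank_range_of_inj hι, Module.finrank_baseChange, Module.finrank_fin_fun] at h
  exact h

end Centralizer

end H18Az.Separable
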