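import Groth.Agent.H18Az.Criterion
import Groth.Agent.H18Az.Separable
import Mathlib.RingTheory.LocalRing.Module
import Mathlib.Tactic

/-! # Regular separable sections of Azumaya algebras over local rings -/

set_option autoImplicit false

universe u v

open TensorProduct IsLocalRing

namespace H18Az.Local

variable {R : Type u} [CommRing R] [IsLocalRing R] {A : Type v} [Ring A] [Algebra R A]

local notation "κ" => IsLocalRing.ResidueField R

theorem mk_surjective : Function.Surjective fun a : A => (1 : κ) ⊗ₜ[R] a :=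
  TensorProduct.mk_surjective R A κ IsLocalRing.residue_surjective

variable [IsAzumaya R A]

theorem residue_csa : Algebra.IsCentral κ (κ ⊗[R] A) ∧ IsSimpleRing (κ ⊗[R] A) := by
  haveI : IsAzumaya κ (κ ⊗[R] A) := Groth.Agent.H23Az.isAzumaya_baseChange R κ A
  exact (H18Az.Criterion.isAzumaya_field_iff κ (κ ⊗[R] A)).mp this

theorem powers_basis {r : ℕ} (hA : Module.finrank R A = r ^ 2) (ξ : A)
    (hsep : (minpoly κ ((1 : κ) ⊗ₜ[R] ξ)).Separable)
    (hrk : (minpoly κ ((1 : κ) ⊗ₜ[R] ξ)).natDegree = r) :
    LinearIndependent R (fun i : Fin r => ξ ^ (i : ℕ)) ∧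
      ξ ^ r ∈ Submodule.span R (Set.range fun i : Fin r => ξ ^ (i : ℕ)) := by
  haveI : Module.Free R A := Module.free_of_flat_of_isLocalRing
  haveI := (residue_csa (R := R) (A := A)).1
  haveI := (residue_csa (R := R) (A := A)).2
  set x : κ ⊗[R] A := (1 : κ) ⊗ₜ[R] ξ with hx
  have hxi : IsIntegral κ x := Algebra.IsIntegral.isIntegral x
  have hB : Module.finrank κ (κ ⊗[R] A) = r ^ 2 := by rw [Module.finrank_baseChange, hA]
  have himg : ∀ i : ℕ, (1 : κ) ⊗ₜ[R] (ξ ^ i) = x ^ i := fun i => by
    rw [hx, Algebra.TensorProduct.tmul_pow, one_pow]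
  have hliB : LinearIndependent κ fun i : Fin r => x ^ (i : ℕ) := hrk ▸ linearIndependent_pow x
  have hspanB : Submodule.span κ (Set.range fun i : Fin r => x ^ (i : ℕ)) =
      Subalgebra.toSubmodule (Subalgebra.centralizer κ ({x} : Set (κ ⊗[R] A))) := by
    rw [Separable.centralizer_eq_adjoin hB x hsep hrk, Separable.adjoin_toSubmodule_eq_span hxi, hrk]
  have hv : LinearIndependent R (fun i : Fin r => ξ ^ (i : ℕ)) := by
    have h0 : LinearIndependent R (fun i : ULift.{u} (Fin r) => ξ ^ (i.down : ℕ)) := by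
      refine Module.IsLocalRing.linearIndependent_of_flat _ ?_
      have e : TensorProduct.mk R κ A 1 ∘ (fun i : ULift.{u} (Fin r) => ξ ^ (i.down : ℕ)) =
          (fun i : Fin r => x ^ (i : ℕ)) ∘ ULift.down := funext fun i => himg _
      rw [e]
      exact hliB.comp _ ULift.down_injective
    exact h0.comp ULift.up ULift.up_injective
  refine ⟨hv, ?_⟩
  let L := Submodule.span κ (Set.range fun i : Fin r => x ^ (i : ℕ))
  obtain ⟨D, hD⟩ := L.exists_isCompl
  let c := Module.finBasis κ D
  choose d hd using fun j => mk_surjective (R := R) ((c j : D) : κ ⊗[R] A)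
  let w : Fin r ⊕ Fin (Module.finrank κ D) → A := Sum.elim (fun i => ξ ^ (i : ℕ)) d
  let wb : Module.Basis (Fin r ⊕ Fin (Module.finrank κ D)) κ (κ ⊗[R] A) :=
    ((Module.Basis.span hliB).prod c).map (Submodule.prodEquivOfIsCompl L D hD)
  have hspan : Submodule.span R (Set.range w) = ⊤ := by
    refine IsLocalRing.span_eq_top_of_tmul_eq_basis w wb fun i => ?_
    cases i with
    | inl i =>
      simp only [w, wb, Sum.elim_inl, himg, Module.Basis.map_apply]
      simp [Module.Basis.span_apply]
    | inr j =>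
      simp only [w, wb, Sum.elim_inr, Module.Basis.map_apply]
      simp [hd]
  let ad : A →ₗ[R] A := LinearMap.mulRight R ξ - LinearMap.mulLeft R ξ
  let adB : κ ⊗[R] A →ₗ[κ] κ ⊗[R] A := LinearMap.mulRight κ x - LinearMap.mulLeft κ x
  have had : ∀ a, (1 : κ) ⊗ₜ[R] ad a = adB ((1 : κ) ⊗ₜ[R] a) := fun a => by
    simp [ad, adB, hx, TensorProduct.tmul_sub]
  have hker : LinearMap.ker adB = L := by
    ext y
    rw [LinearMap.mem_ker]
    show adB y = 0 ↔ y ∈ Submodule.span κ _
    rw [hspanB, Subalgebra.mem_toSubmodule, Subalgebra.mem_centralizer_iff]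
    simp only [adB, LinearMap.sub_apply, LinearMap.mulRight_apply, LinearMap.mulLeft_apply,
      sub_eq_zero, Set.mem_singleton_iff, forall_eq]
    exact eq_comm
  have hadd : LinearIndependent R (ad ∘ d) := by
    have hB1 : LinearIndependent κ fun j => adB ((c j : D) : κ ⊗[R] A) := by
      refine (c.linearIndependent.map' D.subtype D.ker_subtype).map ?_
      rw [hker]
      refine Disjoint.mono_left (Submodule.span_le.mpr ?_) hD.disjoint.symm
      rintro _ ⟨j, rfl⟩
      exact (c j).2
    have h0 : LinearIndependent R (fun j : ULift.{u} (Fin (Module.finrank κ D)) => ad (d j.down)) := by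
      refine Module.IsLocalRing.linearIndependent_of_flat _ ?_
      have e : TensorProduct.mk R κ A 1 ∘
          (fun j : ULift.{u} (Fin (Module.finrank κ D)) => ad (d j.down)) =
          (fun j => adB ((c j : D) : κ ⊗[R] A)) ∘ ULift.down := funext fun j => by
        show (1 : κ) ⊗ₜ[R] ad (d j.down) = _
        rw [had]
        exact congrArg adB (hd j.down)
      rw [e]
      exact hB1.comp _ ULift.down_injective
    exact h0.comp ULift.up ULift.up_injective
  have hz : ξ ^ r ∈ Submodule.span R (Set.range w) := hspan ▸ Submodule.mem_top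
  rw [show Set.range w = Set.range (fun i : Fin r => ξ ^ (i : ℕ)) ∪ Set.range d from
    Set.Sum.elim_range _ _, Submodule.span_union, Submodule.mem_sup] at hz
  obtain ⟨m, hm, y, hy, hmy⟩ := hz
  have hadm : ad m = 0 := by
    have : Submodule.span R (Set.range fun i : Fin r => ξ ^ (i : ℕ)) ≤ LinearMap.ker ad := by
      rw [Submodule.span_le]
      rintro _ ⟨i, rfl⟩
      simp [ad, ← pow_succ, ← pow_succ']
    exact LinearMap.mem_ker.mp (this hm)
  have hady : ad y = 0 := by
    have h1 : ad (ξ ^ r) = 0 := by simp [ad, ← pow_succ, ← pow_succ']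
    rwa [← hmy, map_add, hadm, zero_add] at h1
  obtain ⟨t, rfl⟩ := (Submodule.mem_span_range_iff_exists_fun R).mp hy
  have ht : ∀ j, t j = 0 := Fintype.linearIndependent_iff.mp hadd t (by
    simpa only [map_sum, map_smul, Function.comp_apply] using hady)
  simp only [ht, zero_smul, Finset.sum_const_zero, add_zero] at hmy
  exact hmy ▸ hm

end H18Az.Local
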