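import Groth.Agent.H18Az.Generic
import Groth.Agent.H18Az.Local
import Mathlib.RingTheory.Etale.StandardEtale
import Mathlib.RingTheory.AdjoinRoot
import Mathlib.Tactic

/-! # Étale subalgebras of maximal rank in Azumaya algebras over local rings -/

set_option autoImplicit false

universe u

open TensorProduct Polynomial IsLocalRing

namespace H18Az.EtaleSub

variable {R : Type u} [CommRing R]

theorem etale_adjoinRoot {f : R[X]} (hf : f.Monic) (h : IsCoprime f (derivative f)) :
    Algebra.Etale R (AdjoinRoot f) := by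
  obtain ⟨a, b, hab⟩ := h
  let P : StandardEtalePair R :=
    ⟨f, hf, 1, b, a, 0, by rw [pow_zero, ← hab]; ring⟩
  have hone : AdjoinRoot.mk P.f P.g = 1 := map_one _
  haveI : IsLocalization.Away (1 : AdjoinRoot P.f) (Localization.Away (AdjoinRoot.mk P.f P.g)) := by
    rw [← hone]; infer_instance
  exact Algebra.Etale.of_equiv (P.equivAwayAdjoinRoot.trans
    ((IsLocalization.atUnit (AdjoinRoot P.f) (Localization.Away (AdjoinRoot.mk P.f P.g)) 1
      isUnit_one).symm.restrictScalars R))

variable [IsLocalRing R]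

theorem isCoprime_of_separable_residue {f : R[X]} (hf : f.Monic)
    (h : (f.map (IsLocalRing.residue R)).Separable) : IsCoprime f (derivative f) := by
  have hr : (f.map (IsLocalRing.residue R)).natDegree = f.natDegree := hf.natDegree_map _
  have h1 := (Generic.separable_iff_resultant (hf.map _) hr).mp h
  rw [derivative_map, resultant_map_map] at h1
  have h2 : IsUnit (resultant f (derivative f) f.natDegree (f.natDegree - 1)) :=
    (IsLocalRing.residue_ne_zero_iff_isUnit _).mp h1
  obtain ⟨j, hj⟩ := Nat.le.dest (natDegree_derivative_le f)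
  rw [← hj, resultant_add_right_deg _ _ _ _ _ le_rfl, hf.coeff_natDegree, one_pow, one_mul] at h2
  exact (isUnit_resultant_iff_isCoprime hf).mp h2

theorem exists_etale_subalgebra (A : Type u) [Ring A] [Algebra R A] [IsAzumaya R A] (r : ℕ)
    (hA : Module.finrank R A = r ^ 2) :
    ∃ (E : Type u) (_ : CommRing E) (_ : Algebra R E), Algebra.Etale R E ∧ Module.Finite R E ∧
      Module.Free R E ∧ Module.finrank R E = r ∧ ∃ u : E →ₐ[R] A,
        Function.Injective (u.toLinearMap.lTensor (IsLocalRing.ResidueField R)) := by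
  haveI : Module.Free R A := Module.free_of_flat_of_isLocalRing
  haveI := (Local.residue_csa (R := R) (A := A)).1
  haveI := (Local.residue_csa (R := R) (A := A)).2
  obtain ⟨x, hsep, hdeg⟩ := Generic.exists_separable_element (IsLocalRing.ResidueField R)
    (IsLocalRing.ResidueField R ⊗[R] A) r (by rw [Module.finrank_baseChange, hA])
  obtain ⟨ξ, rfl⟩ := Local.mk_surjective (R := R) (A := A) x
  obtain ⟨hli, hmem⟩ := Local.powers_basis hA ξ hsep hdeg
  obtain ⟨c, hc⟩ := (Submodule.mem_span_range_iff_exists_fun R).mp hmem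
  let q : R[X] := ∑ i : Fin r, monomial (i : ℕ) (c i)
  let f : R[X] := X ^ r - q
  have hq : q.degree < (r : WithBot ℕ) := by
    refine (degree_sum_le _ _).trans_lt ((Finset.sup_lt_iff (WithBot.bot_lt_coe r)).mpr fun i _ => ?_)
    exact (degree_monomial_le _ _).trans_lt (Nat.cast_lt.mpr i.2)
  have hf : f.Monic := monic_X_pow_sub hq
  have hfdeg : f.natDegree = r := by
    refine natDegree_eq_of_degree_eq_some ?_
    rw [show f = X ^ r - q from rfl, degree_sub_eq_left_of_degree_lt, degree_X_pow]
    rwa [degree_X_pow]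
  have hf0 : aeval ξ f = 0 := by
    simp [f, q, aeval_monomial, ← Algebra.smul_def, hc]
  haveI : Algebra.IsIntegral (IsLocalRing.ResidueField R) (IsLocalRing.ResidueField R ⊗[R] A) :=
    inferInstance
  have hmap : f.map (IsLocalRing.residue R) =
      minpoly (IsLocalRing.ResidueField R) ((1 : IsLocalRing.ResidueField R) ⊗ₜ[R] ξ) := by
    refine (eq_of_monic_of_dvd_of_natDegree_le (minpoly.monic (Algebra.IsIntegral.isIntegral _))
      (hf.map _) (minpoly.dvd _ _ ?_) ?_)
    · rw [← IsLocalRing.ResidueField.algebraMap_eq, aeval_map_algebraMap,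
        show ((1 : IsLocalRing.ResidueField R) ⊗ₜ[R] ξ) =
          Algebra.TensorProduct.includeRight (R := R) (A := IsLocalRing.ResidueField R) ξ from rfl,
        aeval_algHom_apply, hf0, map_zero]
    · rw [hf.natDegree_map, hfdeg]
      exact hdeg.ge
  have hcop := isCoprime_of_separable_residue hf (hmap ▸ hsep)
  let pb := AdjoinRoot.powerBasis' hf
  have hdim : pb.dim = r := by rw [AdjoinRoot.powerBasis'_dim, hfdeg]
  haveI : Module.Free R (AdjoinRoot f) := Module.Free.of_basis pb.basis
  haveI : Module.Finite R (AdjoinRoot f) := Module.Finite.of_basis pb.basis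
  let u : AdjoinRoot f →ₐ[R] A :=
    Ideal.Quotient.liftₐ (Ideal.span {f}) (aeval ξ) fun a ha => by
      obtain ⟨b, rfl⟩ := Ideal.mem_span_singleton.mp ha
      rw [map_mul, hf0, zero_mul]
  refine ⟨AdjoinRoot f, inferInstance, inferInstance, etale_adjoinRoot hf hcop, inferInstance,
    inferInstance, by rw [Module.finrank_eq_card_basis pb.basis, Fintype.card_fin, hdim], u, ?_⟩
  let bκ := Algebra.TensorProduct.basis (IsLocalRing.ResidueField R) pb.basis
  let g : IsLocalRing.ResidueField R ⊗[R] AdjoinRoot f →ₗ[IsLocalRing.ResidueField R]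
      IsLocalRing.ResidueField R ⊗[R] A := u.toLinearMap.baseChange (IsLocalRing.ResidueField R)
  show Function.Injective g
  have hg : g ∘ bκ = fun i : Fin pb.dim =>
      ((1 : IsLocalRing.ResidueField R) ⊗ₜ[R] ξ) ^ (i : ℕ) := funext fun i => by
    show g (bκ i) = _
    rw [Algebra.TensorProduct.basis_apply, LinearMap.baseChange_tmul, pb.coe_basis,
      Algebra.TensorProduct.tmul_pow, one_pow]
    congr 1
    show u (AdjoinRoot.root f ^ (i : ℕ)) = ξ ^ (i : ℕ)
    rw [map_pow]
    congr 1
    exact aeval_X ξ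
  have hlig : LinearIndependent (IsLocalRing.ResidueField R) (g ∘ bκ) := by
    rw [hg]
    exact (linearIndependent_pow ((1 : IsLocalRing.ResidueField R) ⊗ₜ[R] ξ)).comp
      (fun i : Fin pb.dim => ⟨i, by rw [hdeg]; exact hdim ▸ i.2⟩)
      (fun a b h => Fin.ext (Fin.ext_iff.mp h :))
  rw [← LinearMap.ker_eq_bot, eq_bot_iff]
  intro z hz
  rw [Submodule.mem_bot]
  have h0 : ∑ i, bκ.repr z i • g (bκ i) = 0 := by
    rw [LinearMap.mem_ker, ← bκ.sum_repr z, map_sum] at hz
    simpa only [map_smul] using hz
  have h1 := Fintype.linearIndependent_iff.mp hlig _ h0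
  rw [← bκ.sum_repr z]
  exact Finset.sum_eq_zero fun i _ => by rw [h1 i, zero_smul]

end H18Az.EtaleSub
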