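import Groth.Agent.H23Az.Ops
import Groth.Agent.H29CSA.Basic

/-! # Azumaya algebras are detected on the closed fibres -/

set_option autoImplicit false

universe u v w

open TensorProduct MulOpposite

namespace H18Az.Criterion

open Groth.Agent.H23Az

variable {R : Type u} [CommRing R]

/-- `K ⊗ C = 0` for a field `K` over `R / m` forces `m C = C`. -/
theorem smul_top_eq_top (m : Ideal R) [m.IsMaximal] (K : Type w) [Field K] [Algebra R K]
    (hK : m ≤ RingHom.ker (algebraMap R K)) (C : Type v) [AddCommGroup C] [Module R C]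
    [hC : Subsingleton (K ⊗[R] C)] : m • (⊤ : Submodule R C) = ⊤ := by
  letI : Field (R ⧸ m) := Ideal.Quotient.field m
  letI : Algebra (R ⧸ m) K := (Ideal.Quotient.lift m (algebraMap R K) fun x hx => hK hx).toAlgebra
  haveI : IsScalarTower R (R ⧸ m) K := IsScalarTower.of_algebraMap_eq fun x => rfl
  have e1 := AlgebraTensorModule.cancelBaseChange R (R ⧸ m) K K C
  haveI : Subsingleton (K ⊗[R ⧸ m] ((R ⧸ m) ⊗[R] C)) := e1.toEquiv.subsingleton
  haveI : Subsingleton ((R ⧸ m) ⊗[R] C) :=
    (Module.FaithfullyFlat.subsingleton_tensorProduct_iff_right (R ⧸ m) K).mp ‹_›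
  have : Subsingleton (C ⧸ m • (⊤ : Submodule R C)) :=
    (TensorProduct.quotTensorEquivQuotSMul C m).symm.toEquiv.subsingleton
  exact Submodule.Quotient.subsingleton_iff.mp this

/-- A family of fields detecting all maximal ideals. -/
def Detects (P : ∀ (K : Type u) [Field K] [Algebra R K], Prop) : Prop :=
  ∀ m : Ideal R, m.IsMaximal → ∃ (K : Type u) (_ : Field K) (_ : Algebra R K),
    m ≤ RingHom.ker (algebraMap R K) ∧ P K

theorem subsingleton_of_detects (C : Type v) [AddCommGroup C] [Module R C] [Module.Finite R C]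
    (h : Detects (R := R) fun K _ _ => Subsingleton (K ⊗[R] C)) : Subsingleton C := by
  by_contra hne
  rw [not_subsingleton_iff_nontrivial] at hne
  obtain ⟨p, hp⟩ := (Module.nonempty_support_iff (R := R) (M := C)).mpr hne
  obtain ⟨m, hm, hpm⟩ := Ideal.exists_le_maximal p.asIdeal p.isPrime.ne_top
  have hmem : (⟨m, hm.isPrime⟩ : PrimeSpectrum R) ∈ Module.support R C :=
    Module.mem_support_mono (q := ⟨m, hm.isPrime⟩) hpm hp
  obtain ⟨K, iK, iA, hle, hK⟩ := h m hm
  obtain ⟨r, hr, hr0⟩ := Submodule.exists_sub_one_mem_and_smul_eq_zero_of_fg_of_le_smul m ⊤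
    Module.Finite.fg_top (smul_top_eq_top m K hle C (hC := hK)).ge
  rw [Module.mem_support_iff_of_finite] at hmem
  have hrm : r ∈ m := hmem (Module.mem_annihilator.mpr fun x => hr0 x Submodule.mem_top)
  exact hm.ne_top ((Ideal.eq_top_iff_one _).mpr (by simpa using m.sub_mem hrm hr))

variable (A : Type v) [Ring A] [Algebra R A] [Module.Finite R A] [Module.Projective R A]

theorem isAzumaya_of_detects
    (h : Detects (R := R) fun K _ _ => IsAzumaya K (K ⊗[R] A)) : IsAzumaya R A := by
  have hff : Module.FaithfullyFlat R A := by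
    refine ⟨fun m hm hTop => ?_⟩
    obtain ⟨K, iK, iA, hle, hK⟩ := h m hm
    obtain ⟨r, hr, hr0⟩ := Submodule.exists_sub_one_mem_and_smul_eq_zero_of_fg_of_le_smul m ⊤
      Module.Finite.fg_top (by rw [hTop])
    have hr1 : algebraMap R K r = 0 := by
      refine eq_of_smul_eq_smul (α := K ⊗[R] A) fun x => ?_
      rw [zero_smul, algebraMap_smul]
      induction x using TensorProduct.induction_on with
      | zero => simp
      | add x y hx hy => rw [smul_add, hx, hy, add_zero]
      | tmul s a =>
        rw [← TensorProduct.tmul_smul, hr0 a Submodule.mem_top, TensorProduct.tmul_zero]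
    have h1 : algebraMap R K (r - 1) = 0 := hle hr
    simp [hr1] at h1
  haveI : FaithfulSMul R A := faithfulSMul_of_faithfullyFlat (R := R) A
  haveI : Module.Projective R (Module.End R A) := by
    obtain ⟨n, i, p, hpi⟩ := exists_retract (R := R) A
    exact Module.Projective.of_split (LinearMap.lcomp R _ p ∘ₗ LinearMap.compRight R i)
      (LinearMap.lcomp R A i ∘ₗ LinearMap.compRight R p)
      (LinearMap.ext fun f => LinearMap.ext fun x => by
        have := fun y => LinearMap.congr_fun hpi y
        simp only [LinearMap.comp_apply, LinearMap.id_apply] at this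
        simp [this])
  haveI : Module.Finite R (Module.End R A) := by
    obtain ⟨n, i, p, hpi⟩ := exists_retract (R := R) A
    refine Module.Finite.of_surjective (LinearMap.lcomp R A i ∘ₗ LinearMap.compRight R p)
      fun f => ⟨i ∘ₗ f ∘ₗ p, LinearMap.ext fun x => ?_⟩
    have := fun y => LinearMap.congr_fun hpi y
    simp only [LinearMap.comp_apply, LinearMap.id_apply] at this
    simp [this]
  let u := (AlgHom.mulLeftRight R A).toLinearMap
  have hu : ∀ (K : Type u) [Field K] [Algebra R K], IsAzumaya K (K ⊗[R] A) →
      Function.Bijective (u.lTensor K) := by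
    intro K _ _ hK
    have h' : Function.Bijective (endBaseChange K A ∘ u.baseChange K) := by
      have : (endBaseChange (R := R) K A : _ → _) ∘ u.baseChange K =
          AlgHom.mulLeftRight K (K ⊗[R] A) ∘ bcOp R K A :=
        funext fun z => (mulLeftRight_bcOp R K A z).symm
      rw [this]
      exact hK.bij.comp (bcOp R K A).bijective
    exact (Function.Bijective.of_comp_iff' (endBaseChange_bijective A K) _).mp h'
  have hsurj : Function.Surjective u := by
    rw [← LinearMap.range_eq_top, ← Submodule.Quotient.subsingleton_iff]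
    refine subsingleton_of_detects (R := R) _ fun m hm => ?_
    obtain ⟨K, iK, iA, hle, hK⟩ := h m hm
    refine ⟨K, iK, iA, hle, subsingleton_of_forall_eq 0 fun z => ?_⟩
    obtain ⟨y, rfl⟩ := LinearMap.lTensor_surjective K (Submodule.mkQ_surjective _) z
    obtain ⟨x, rfl⟩ := (hu K hK).2 y
    rw [← LinearMap.comp_apply, ← LinearMap.lTensor_comp, LinearMap.range_mkQ_comp]
    simp
  have hinj : Function.Injective u := by
    obtain ⟨s, hs⟩ := Module.projective_lifting_property u LinearMap.id hsurj
    let k : (A ⊗[R] Aᵐᵒᵖ) →ₗ[R] LinearMap.ker u :=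
      (LinearMap.id - s ∘ₗ u).codRestrict _ fun x => by
        have := LinearMap.congr_fun hs (u x)
        simp only [LinearMap.comp_apply, LinearMap.id_apply] at this
        simp [this]
    have hk : k ∘ₗ (LinearMap.ker u).subtype = LinearMap.id :=
      LinearMap.ext fun x => Subtype.ext (by
        have hx : u x.1 = 0 := x.2
        simp [k, hx])
    haveI : Module.Finite R (LinearMap.ker u) :=
      Module.Finite.of_surjective k fun x => ⟨x, LinearMap.congr_fun hk x⟩
    rw [← LinearMap.ker_eq_bot, ← Submodule.subsingleton_iff_eq_bot]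
    refine subsingleton_of_detects (R := R) _ fun m hm => ?_
    obtain ⟨K, iK, iA, hle, hK⟩ := h m hm
    refine ⟨K, iK, iA, hle, subsingleton_of_forall_eq 0 fun z => ?_⟩
    have h1 : (LinearMap.ker u).subtype.lTensor K z = 0 := (hu K hK).1 (by
      rw [← LinearMap.comp_apply, ← LinearMap.lTensor_comp, LinearMap.comp_ker_subtype]
      simp)
    have h2 := congrArg (k.lTensor K) h1
    rwa [← LinearMap.comp_apply, ← LinearMap.lTensor_comp, hk, LinearMap.lTensor_id, map_zero]
      at h2
  exact { bij := ⟨hinj, hsurj⟩ }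

/-- Over a field, Azumaya algebras are exactly the central simple algebras. -/
theorem isAzumaya_field_iff (k : Type u) [Field k] (B : Type v) [Ring B] [Algebra k B]
    [Module.Finite k B] : IsAzumaya k B ↔ Algebra.IsCentral k B ∧ IsSimpleRing B := by
  refine ⟨fun h => ⟨inferInstance, ?_⟩, fun h => ?_⟩
  · haveI : Nontrivial B := (FaithfulSMul.algebraMap_injective k B).nontrivial
    refine IsSimpleRing.of_eq_bot_or_eq_top fun I => ?_
    have h1 := twoSidedIdeal_eq_map_comap k B I
    rcases Ideal.eq_bot_or_top ((TwoSidedIdeal.asIdeal I).comap (algebraMap k B)) with hJ | hJ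
    · rw [hJ, Ideal.map_bot] at h1
      left
      ext x
      rw [← TwoSidedIdeal.mem_asIdeal, h1]
      simp
    · rw [hJ, Ideal.map_top] at h1
      right
      ext x
      rw [← TwoSidedIdeal.mem_asIdeal, h1]
      simp
  · haveI := h.1
    haveI := h.2
    haveI : Nontrivial B := inferInstance
    exact { bij := Groth.Agent.H29CSA.mulLeftRight_bijective k B }

end H18Az.Criterion
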