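import Groth.Agent.H18Az.Separable
import Groth.Agent.H29CSA.Subfield
import Mathlib.RingTheory.LittleWedderburn
import Mathlib.FieldTheory.Finite.Extension
import Mathlib.FieldTheory.PrimitiveElement
import Mathlib.RingTheory.Polynomial.Resultant.Basic
import Mathlib.Algebra.MvPolynomial.Funext
import Mathlib.LinearAlgebra.Matrix.Charpoly.Minpoly
import Mathlib.LinearAlgebra.Eigenspace.Charpoly

/-! # Central simple algebras contain separable elements of maximal degree -/

set_option autoImplicit false

universe u v

open TensorProduct Polynomial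

namespace H18Az.Generic

theorem separable_iff_resultant {K : Type u} [Field K] {f : K[X]} (hf : f.Monic) {r : ℕ}
    (hr : f.natDegree = r) :
    f.Separable ↔ resultant f (derivative f) r (r - 1) ≠ 0 := by
  have hle : (derivative f).natDegree ≤ r - 1 := hr ▸ natDegree_derivative_le f
  obtain ⟨j, hj⟩ := Nat.le.dest hle
  rw [← hj, resultant_add_right_deg _ _ _ _ _ le_rfl,
    show f.coeff r = 1 from hr ▸ hf.coeff_natDegree, one_pow, one_mul, ← isUnit_iff_ne_zero, ← hr,
    isUnit_resultant_iff_isCoprime hf]
  rfl

theorem minpoly_matrix_of_charpoly_separable {K : Type u} [Field K] [IsAlgClosed K] {n : ℕ}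
    (M : Matrix (Fin n) (Fin n) K) (h : M.charpoly.Separable) : minpoly K M = M.charpoly := by
  have hM : IsIntegral K M := Algebra.IsIntegral.isIntegral M
  refine eq_of_monic_of_associated (minpoly.monic hM) M.charpoly_monic
    (associated_of_dvd_dvd (Matrix.minpoly_dvd_charpoly M) ?_)
  refine (IsAlgClosed.splits _).dvd_of_roots_le_roots M.charpoly_monic.ne_zero ?_
  refine (Multiset.le_iff_subset (nodup_roots h)).mpr fun c hc => ?_
  rw [mem_roots M.charpoly_monic.ne_zero, ← Matrix.charpoly_toLin',
    ← Module.End.hasEigenvalue_iff_isRoot_charpoly] at hc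
  rw [mem_roots (minpoly.ne_zero hM), ← Matrix.minpoly_toLin']
  exact Module.End.isRoot_of_hasEigenvalue hc

variable (k : Type u) [Field k] (B : Type v) [Ring B] [Algebra k B] [Algebra.IsCentral k B]
  [IsSimpleRing B] [FiniteDimensional k B] (r : ℕ)

theorem exists_of_infinite [Infinite k] (hB : Module.finrank k B = r ^ 2) :
    ∃ x : B, (minpoly k x).Separable ∧ (minpoly k x).natDegree = r := by
  classical
  let K := AlgebraicClosure k
  obtain ⟨n, hn, ⟨e⟩⟩ := Groth.Agent.H29CSA.exists_splits_of_isAlgClosed (k := k) B K
  have hnr : n = r := Nat.pow_left_injective two_ne_zero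
    ((Groth.Agent.H29CSA.finrank_eq_sq_of_splits B K e).symm.trans hB)
  subst hnr
  let b := Module.finBasis k B
  let ι := Fin (Module.finrank k B)
  let bK : Module.Basis ι K (Matrix (Fin n) (Fin n) K) :=
    (Algebra.TensorProduct.basis K b).map e.toLinearEquiv
  let G : Matrix (Fin n) (Fin n) (MvPolynomial ι K) :=
    Matrix.of fun i j => ∑ l : ι, MvPolynomial.X l * MvPolynomial.C (bK l i j)
  let D : MvPolynomial ι K := resultant G.charpoly (derivative G.charpoly) n (n - 1)
  have hev : ∀ t : ι → K, MvPolynomial.eval t D =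
      resultant (∑ l, t l • bK l).charpoly (derivative (∑ l, t l • bK l).charpoly) n (n - 1) := by
    intro t
    have hG : G.map (MvPolynomial.eval t) = ∑ l, t l • bK l := by
      ext i j
      simp [G, Matrix.sum_apply]
    rw [← hG, Matrix.charpoly_map, derivative_map, resultant_map_map]
  have hsepD : ∀ t : ι → K, MvPolynomial.eval t D ≠ 0 ↔ (∑ l, t l • bK l).charpoly.Separable :=
    fun t => by
      rw [hev, separable_iff_resultant (Matrix.charpoly_monic _)
        (by rw [Matrix.charpoly_natDegree_eq_dim, Fintype.card_fin])]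
  have hD0 : D ≠ 0 := by
    intro h0
    let d : Fin n → K := fun i => Infinite.natEmbedding K i
    have hd : Function.Injective d := fun a a' h => Fin.ext ((Infinite.natEmbedding K).injective h)
    have h := (hsepD fun l => bK.repr (Matrix.diagonal d) l).mpr (by
      rw [bK.sum_repr, Matrix.charpoly_diagonal]
      exact separable_prod_X_sub_C_iff.mpr hd)
    rw [h0, map_zero] at h
    exact h rfl
  obtain ⟨t, ht⟩ : ∃ t : ι → k, MvPolynomial.eval (fun l => algebraMap k K (t l)) D ≠ 0 := by
    by_contra hc
    push Not at hc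
    refine hD0 (MvPolynomial.funext_set (fun _ => Set.range (algebraMap k K))
      (fun _ => Set.infinite_range_of_injective (algebraMap k K).injective) fun x hx => ?_)
    choose t ht using fun l => hx l trivial
    have : x = fun l => algebraMap k K (t l) := funext fun l => (ht l).symm
    rw [this, hc, map_zero]
  refine ⟨∑ l, t l • b l, ?_⟩
  have hM : (∑ l, algebraMap k K (t l) • bK l) = e ((1 : K) ⊗ₜ[k] ∑ l, t l • b l) := by
    rw [TensorProduct.tmul_sum, map_sum]
    refine Finset.sum_congr rfl fun l _ => ?_
    rw [TensorProduct.tmul_smul, ← algebraMap_smul K (t l), map_smul]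
    simp [bK]
  have hsep := (hsepD _).mp ht
  rw [hM] at hsep
  have hx : IsIntegral k (∑ l, t l • b l) := Algebra.IsIntegral.isIntegral _
  have hmin : minpoly K (e ((1 : K) ⊗ₜ[k] ∑ l, t l • b l)) =
      (minpoly k (∑ l, t l • b l)).map (algebraMap k K) := by
    rw [minpoly.algEquiv_eq, Separable.minpoly_baseChange K hx]
  rw [minpoly_matrix_of_charpoly_separable _ hsep] at hmin
  rw [hmin] at hsep
  refine ⟨(separable_map _).mp hsep, ?_⟩
  rw [← natDegree_map (algebraMap k K), ← hmin, Matrix.charpoly_natDegree_eq_dim, Fintype.card_fin]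

theorem exists_of_finite [Finite k] (hB : Module.finrank k B = r ^ 2) :
    ∃ x : B, (minpoly k x).Separable ∧ (minpoly k x).natDegree = r := by
  obtain ⟨n, hn, D, _, _, hcen, hfin, ⟨e⟩⟩ :=
    Groth.Agent.H29CSA.exists_divisionRing_matrix (k := k) (A := B)
  haveI : Finite D := Module.finite_of_finite k
  have hcomm : ∀ a c : D, a * c = c * a := fun a c =>
    letI := littleWedderburn D
    mul_comm a c
  have hD : ∀ d : D, ∃ c : k, algebraMap k D c = d := fun d => by
    obtain ⟨c, hc⟩ := hcen.out (Subalgebra.mem_center_iff.mpr fun a => hcomm a d)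
    exact ⟨c, hc⟩
  let f : k ≃ₐ[k] D := AlgEquiv.ofBijective (Algebra.ofId k D) ⟨(algebraMap k D).injective, hD⟩
  let e' : B ≃ₐ[k] Matrix (Fin n) (Fin n) k := e.trans f.symm.mapMatrix
  have hnr : n = r := Nat.pow_left_injective two_ne_zero (by
    show n ^ 2 = r ^ 2
    rw [← hB, e'.toLinearEquiv.finrank_eq, Module.finrank_matrix]
    simp [pow_two])
  subst hnr
  obtain ⟨p, hp⟩ := CharP.exists k
  haveI : Fact p.Prime := ⟨CharP.char_is_prime k p⟩
  letI := ZMod.algebra k p
  let K := FiniteField.Extension k p n
  haveI : Finite K := Module.finite_of_finite k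
  haveI : FiniteDimensional k K := inferInstance
  have hK : Module.finrank k K = n := by
    have h := Module.finrank_mul_finrank (ZMod p) k K
    rw [FiniteField.finrank_zmod_extension] at h
    exact mul_left_cancel₀ Module.finrank_pos.ne' h
  obtain ⟨α, hα⟩ := Field.exists_primitive_element k K
  let bα : Module.Basis (Fin n) k K := Module.finBasisOfFinrankEq k K hK
  refine ⟨e'.symm (Algebra.leftMulMatrix bα α), ?_⟩
  rw [minpoly.algEquiv_eq, minpoly.algHom_eq _ (Algebra.leftMulMatrix_injective bα)]
  refine ⟨(Algebra.IsSeparable.isSeparable k α :), ?_⟩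
  rw [← IntermediateField.adjoin.finrank (Algebra.IsIntegral.isIntegral α), hα,
    IntermediateField.finrank_top', hK]

theorem exists_separable_element (hB : Module.finrank k B = r ^ 2) :
    ∃ x : B, (minpoly k x).Separable ∧ (minpoly k x).natDegree = r := by
  rcases finite_or_infinite k with h | h
  · exact exists_of_finite k B r hB
  · exact exists_of_infinite k B r hB

end H18Az.Generic
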