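import Mathlib.Algebra.Azumaya.Basic
import Mathlib.RingTheory.LocalRing.Module
import Mathlib.RingTheory.Flat.Basic
import Mathlib.LinearAlgebra.Determinant
import Mathlib.RingTheory.Nakayama
import Mathlib.Tactic

/-! # Automorphisms of Azumaya algebras over local rings are inner -/

set_option autoImplicit false

universe u v

open TensorProduct MulOpposite IsLocalRing

namespace H18Az.Inner

variable {R : Type u} [CommRing R] [IsLocalRing R]

/-- An automorphism of the endomorphism algebra of a finite free module over a local ring is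
conjugation by an automorphism of the module. -/
theorem exists_intertwiner {M : Type v} [AddCommGroup M] [Module R M] [Module.Finite R M]
    [Module.Free R M] (ρ : Module.End R M ≃ₐ[R] Module.End R M) :
    ∃ T : M →ₗ[R] M, Function.Bijective T ∧ ∀ f a, T (f a) = ρ f (T a) := by
  classical
  rcases subsingleton_or_nontrivial M with hM | hM
  · exact ⟨LinearMap.id, Function.bijective_id, fun f a => Subsingleton.elim _ _⟩
  let b := Module.Free.chooseBasis R M
  obtain ⟨i₀⟩ := b.index_nonempty
  let E : Module.End R M := (b.coord i₀).smulRight (b i₀)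
  have hE : E * E = E := LinearMap.ext fun x => by
    simp [E]
  let m := maximalIdeal R
  have hE0 : E ≠ 0 := fun h => by
    have h1 := LinearMap.congr_fun h (b i₀)
    simp [E] at h1
    exact b.ne_zero i₀ h1
  have hv : ∃ v : M, ρ E v ∉ (m • ⊤ : Submodule R M) := by
    by_contra hc
    push Not at hc
    have hle : LinearMap.range (ρ E) ≤ m • LinearMap.range (ρ E) := by
      rintro _ ⟨x, rfl⟩
      have h2 : ρ E (ρ E x) = ρ E x := by
        rw [← Module.End.mul_apply, ← map_mul, hE]
      rw [← h2]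
      have h3 : ρ E (ρ E x) ∈ Submodule.map (ρ E) (m • ⊤) := ⟨_, hc x, rfl⟩
      rwa [Submodule.map_smul'', Submodule.map_top] at h3
    have h4 := Submodule.eq_bot_of_le_smul_of_le_jacobson_bot m _
      (Module.Finite.iff_fg.mp inferInstance) hle
      (by rw [jacobson_eq_maximalIdeal ⊥ bot_ne_top])
    rw [LinearMap.range_eq_bot] at h4
    exact hE0 (ρ.injective (h4.trans (map_zero ρ).symm))
  obtain ⟨v, hv⟩ := hv
  let T : M →ₗ[R] M :=
    { toFun := fun a => ρ ((b.coord i₀).smulRight a) v
      map_add' := fun x y => by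
        rw [← LinearMap.add_apply, ← map_add]
        congr 2
        exact LinearMap.ext fun z => by simp
      map_smul' := fun c x => by
        rw [RingHom.id_apply, ← LinearMap.smul_apply, ← map_smul]
        congr 2
        exact LinearMap.ext fun z => by
          simp only [LinearMap.smulRight_apply, LinearMap.smul_apply]
          exact smul_comm _ _ _ }
  have hT : ∀ (f : Module.End R M) a, T (f a) = ρ f (T a) := fun f a => by
    show ρ ((b.coord i₀).smulRight (f a)) v = ρ f (ρ ((b.coord i₀).smulRight a) v)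
    rw [← Module.End.mul_apply, ← map_mul]
    congr 2
    exact LinearMap.ext fun z => by simp
  have hinj : ∀ a, T a ∈ (m • ⊤ : Submodule R M) → a ∈ (m • ⊤ : Submodule R M) := by
    intro a ha
    by_contra hna
    have hj : ∃ j, IsUnit (b.repr a j) := by
      by_contra hall
      push Not at hall
      refine hna ?_
      rw [← b.sum_repr a]
      exact Submodule.sum_mem _ fun j _ => Submodule.smul_mem_smul (hall j) Submodule.mem_top
    obtain ⟨j, hj⟩ := hj
    obtain ⟨w, hw⟩ := hj
    let f : Module.End R M := (b.coord j).smulRight (((w⁻¹ : Rˣ) : R) • b i₀)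
    have hfa : f a = b i₀ := by simp [f, ← hw, smul_smul]
    refine hv ?_
    have h5 : T (b i₀) = ρ E v := rfl
    rw [← h5, ← hfa, hT]
    have h3 : ρ f (T a) ∈ Submodule.map (ρ f) (m • ⊤) := ⟨_, ha, rfl⟩
    rw [Submodule.map_smul''] at h3
    exact Submodule.smul_mono le_rfl le_top h3
  have hsurj : Function.Surjective T := by
    let Q := M ⧸ (m • ⊤ : Submodule R M)
    let Tq : Q →ₗ[R] Q := Submodule.mapQ _ _ T (fun x hx => by
      have h3 : T x ∈ Submodule.map T (m • ⊤) := ⟨_, hx, rfl⟩
      rw [Submodule.map_smul''] at h3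
      exact Submodule.smul_mono le_rfl le_top h3)
    have hTq : Function.Injective Tq := by
      rw [injective_iff_map_eq_zero]
      intro q hq
      obtain ⟨x, rfl⟩ := Submodule.Quotient.mk_surjective _ q
      exact (Submodule.Quotient.mk_eq_zero _).mpr (hinj x ((Submodule.Quotient.mk_eq_zero _).mp hq))
    haveI : Module.Finite (R ⧸ m) Q := Module.Finite.of_restrictScalars_finite R _ _
    let Tk : Q →ₗ[R ⧸ m] Q :=
      { toFun := Tq
        map_add' := Tq.map_add
        map_smul' := fun c x => by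
          obtain ⟨c, rfl⟩ := Ideal.Quotient.mk_surjective c
          exact Tq.map_smul c x }
    letI : Field (R ⧸ m) := Ideal.Quotient.field m
    have hs : Function.Surjective Tk := LinearMap.injective_iff_surjective.mp hTq
    rw [← LinearMap.range_eq_top, ← IsLocalRing.map_mkQ_eq_top (N := LinearMap.range T),
      Submodule.eq_top_iff']
    intro q
    obtain ⟨p, rfl⟩ := hs q
    obtain ⟨x, rfl⟩ := Submodule.Quotient.mk_surjective _ p
    exact ⟨T x, LinearMap.mem_range_self T x, rfl⟩
  exact ⟨T, OrzechProperty.bijective_of_surjective_endomorphism T hsurj, hT⟩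

theorem exists_inner {A : Type v} [Ring A] [Algebra R A] [IsAzumaya R A] (u : A ≃ₐ[R] A) :
    ∃ a : Aˣ, ∀ x : A, u x = (a : A) * x * (a⁻¹ : Aˣ) := by
  haveI : Module.Free R A := Module.free_of_flat_of_isLocalRing
  let e : A ⊗[R] Aᵐᵒᵖ ≃ₐ[R] Module.End R A :=
    AlgEquiv.ofBijective (AlgHom.mulLeftRight R A) IsAzumaya.bij
  let ρ : Module.End R A ≃ₐ[R] Module.End R A :=
    e.symm.trans ((Algebra.TensorProduct.congr u AlgEquiv.refl).trans e)
  obtain ⟨T, hT, hTρ⟩ := exists_intertwiner ρ
  have key : ∀ x y a : A, T (x * a * y) = u x * T a * y := fun x y a => by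
    have h := hTρ (e (x ⊗ₜ op y)) a
    have h2 : ρ (e (x ⊗ₜ op y)) = e (u x ⊗ₜ op y) := by simp [ρ]
    rw [h2] at h
    simpa [e, AlgHom.mulLeftRight_apply] using h
  have hl : ∀ x, T x = u x * T 1 := fun x => by simpa using key x 1 1
  have hr : ∀ x, T x = T 1 * x := fun x => by simpa using key 1 x 1
  obtain ⟨z, hz⟩ := hT.2 1
  have h1 : T 1 * z = 1 := (hr z).symm.trans hz
  have h2 : u z * T 1 = 1 := (hl z).symm.trans hz
  have h3 : u z = z := left_inv_eq_right_inv h2 h1
  let a : Aˣ := ⟨T 1, z, h1, h3 ▸ h2⟩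
  refine ⟨a, fun x => ?_⟩
  show u x = T 1 * x * z
  rw [← hr, hl, mul_assoc, h1, mul_one]

theorem inner_unique {A : Type v} [Ring A] [Algebra R A] [IsAzumaya R A] (u : A ≃ₐ[R] A)
    (a a' : Aˣ) (ha : ∀ x : A, u x = (a : A) * x * (a⁻¹ : Aˣ))
    (ha' : ∀ x : A, u x = (a' : A) * x * (a'⁻¹ : Aˣ)) :
    ∃ c : Rˣ, (a' : A) = algebraMap R A (c : R) * (a : A) := by
  haveI : Module.Free R A := Module.free_of_flat_of_isLocalRing
  have hc : ∀ (p q : Aˣ), (∀ x : A, (p : A) * x * (p⁻¹ : Aˣ) = (q : A) * x * (q⁻¹ : Aˣ)) →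
      ∃ c : R, algebraMap R A c = ((p⁻¹ * q : Aˣ) : A) := by
    intro p q h
    have : ((p⁻¹ * q : Aˣ) : A) ∈ Subalgebra.center R A := by
      rw [Subalgebra.mem_center_iff]
      intro x
      have h1 := h x
      have h2 := congrArg (fun t : A => ((p⁻¹ : Aˣ) : A) * t * (q : A)) h1
      simp only [← mul_assoc, Units.inv_mul, one_mul] at h2
      rw [mul_assoc (((p⁻¹ : Aˣ) : A) * (q : A) * x), Units.inv_mul, mul_one] at h2
      rw [Units.val_mul, ← mul_assoc]
      exact h2
    obtain ⟨c, hc⟩ := Algebra.IsCentral.out this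
    exact ⟨c, hc⟩
  obtain ⟨c, hc1⟩ := hc a a' fun x => (ha x).symm.trans (ha' x)
  obtain ⟨d, hd⟩ := hc a' a fun x => (ha' x).symm.trans (ha x)
  have hcd : c * d = 1 := by
    refine FaithfulSMul.algebraMap_injective R A ?_
    rw [map_mul, map_one, hc1, hd, ← Units.val_mul]
    simp
  refine ⟨⟨c, d, hcd, by rw [mul_comm]; exact hcd⟩, ?_⟩
  show (a' : A) = algebraMap R A c * (a : A)
  rw [Algebra.commutes, hc1, ← Units.val_mul, mul_inv_cancel_left]

end H18Az.Inner
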