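import Mathlib.Algebra.Azumaya.Basic
import Mathlib.RingTheory.LocalRing.Module
import Mathlib.RingTheory.Artinian.Module
import Mathlib.RingTheory.Flat.Basic
import Groth.Agent.H29CSA.Split
import Mathlib.Tactic

/-! # Azumaya algebras as modules over commutative subalgebras acting on the right -/

set_option autoImplicit false

universe u v w

open TensorProduct MulOpposite

namespace H18Az.RightModule

section General

variable {R : Type u} [CommRing R] {A : Type v} [Ring A] [Algebra R A] {E : Type w} [CommRing E]
  [Algebra R E] (u : E →ₐ[R] A) [Module E A] (hmod : ∀ (e : E) (a : A), e • a = a * u e)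

include hmod in
theorem isScalarTower : IsScalarTower R E A :=
  ⟨fun r e a => by rw [hmod, hmod, map_smul, mul_smul_comm]⟩

include hmod in
theorem smulCommClass : SMulCommClass E R A :=
  ⟨fun e r a => by rw [hmod, hmod, smul_mul_assoc]⟩

variable [IsScalarTower R E A]

/-- Left multiplication, linear for the right action. -/
def lam : A →ₐ[R] Module.End E A where
  toFun a :=
    { toFun := fun x => a * x
      map_add' := fun x y => mul_add a x y
      map_smul' := fun e x => by rw [RingHom.id_apply, hmod, hmod, mul_assoc] }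
  map_one' := LinearMap.ext fun x => one_mul x
  map_mul' a b := LinearMap.ext fun x => mul_assoc a b x
  map_zero' := LinearMap.ext fun x => zero_mul x
  map_add' a b := LinearMap.ext fun x => add_mul a b x
  commutes' r := LinearMap.ext fun x => by
    show algebraMap R A r * x = r • x
    rw [Algebra.smul_def]

/-- The map `E ⊗ A → End_E A`, `e ⊗ a ↦ (x ↦ a x u(e))`. -/
noncomputable def phi : E ⊗[R] A →ₐ[E] Module.End E A :=
  Algebra.TensorProduct.lift (Algebra.ofId E _) (lam u hmod)
    (fun e a => Algebra.commutes e (lam u hmod a))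

theorem phi_tmul (e : E) (a x : A) : phi u hmod (e ⊗ₜ a) x = a * x * u e := by
  rw [phi, Algebra.TensorProduct.lift_tmul, Module.End.mul_apply]
  show algebraMap E (Module.End E A) e (a * x) = _
  rw [Module.algebraMap_end_apply, hmod]

/-- The underlying map to `A ⊗ Aᵐᵒᵖ`. -/
noncomputable def toOp : E ⊗[R] A →ₗ[R] A ⊗[R] Aᵐᵒᵖ :=
  (LinearMap.lTensor A ((opLinearEquiv R).toLinearMap ∘ₗ u.toLinearMap)) ∘ₗ
    (TensorProduct.comm R E A).toLinearMap

theorem mulLeftRight_toOp (z : E ⊗[R] A) (x : A) :
    AlgHom.mulLeftRight R A (toOp u z) x = phi u hmod z x := by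
  induction z using TensorProduct.induction_on with
  | zero => simp
  | add a b ha hb => simp only [map_add, LinearMap.add_apply, ha, hb]
  | tmul e a => rw [phi_tmul]; simp [toOp, AlgHom.mulLeftRight_apply]

theorem phi_injective_of_injective (hbij : Function.Injective (AlgHom.mulLeftRight R A))
    [Module.Flat R A] (hu : Function.Injective u) : Function.Injective (phi u hmod) := by
  intro a b hab
  have h1 : toOp u a = toOp u b := hbij (LinearMap.ext fun x => by
    rw [mulLeftRight_toOp u hmod, mulLeftRight_toOp u hmod, hab])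
  refine (TensorProduct.comm R E A).injective
    (Module.Flat.lTensor_preserves_injective_linearMap _ ?_ h1)
  exact (opLinearEquiv R (M := A)).injective.comp hu

end General

section Field

variable {k : Type u} [Field k] {B : Type v} [Ring B] [Algebra k B] [Algebra.IsCentral k B]
  [IsSimpleRing B] [FiniteDimensional k B] {L : Type w} [CommRing L] [Algebra k L] [IsReduced L]
  (ι : L →ₐ[k] B) (hι : Function.Injective ι) [Module L B] (hmod : ∀ (l : L) (b : B), l • b = b * ι l)

include hι hmod in
/-- A central simple algebra of dimension `r²` is free of rank `r` over a reduced commutative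
subalgebra of dimension `r` acting on the right. -/
theorem nonempty_basis {r : ℕ} (hB : Module.finrank k B = r ^ 2) (hL : Module.finrank k L = r) :
    Nonempty (Module.Basis (Fin r) L B) := by
  classical
  haveI : IsScalarTower k L B := isScalarTower ι hmod
  haveI : FiniteDimensional k L := FiniteDimensional.of_injective ι.toLinearMap hι
  haveI : IsArtinianRing L := IsArtinianRing.of_finite k L
  haveI : Module.Finite L B := Module.Finite.of_restrictScalars_finite k L B
  haveI : Fintype (MaximalSpectrum L) := Fintype.ofFinite _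
  have hne : ∀ q : MaximalSpectrum L, q.asIdeal • (⊤ : Submodule L B) ≠ ⊤ := by
    intro q hq
    obtain ⟨s, hs, hs0⟩ := Submodule.exists_sub_one_mem_and_smul_eq_zero_of_fg_of_le_smul q.asIdeal ⊤
      Module.Finite.fg_top hq.ge
    have h0 : s = 0 := hι (by
      have := hs0 1 Submodule.mem_top
      rwa [hmod, one_mul, ← map_zero ι] at this)
    subst h0
    exact q.isMaximal.ne_top ((Ideal.eq_top_iff_one _).mpr (by simpa using q.asIdeal.neg_mem hs))
  have hge : ∀ q : MaximalSpectrum L, ∃ φ : (B ⧸ q.asIdeal • (⊤ : Submodule L B)) →ₗ[L]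
      (Fin r → L ⧸ q.asIdeal), Function.Surjective φ := by
    intro q
    letI : Field (L ⧸ q.asIdeal) := Ideal.Quotient.field q.asIdeal
    let Q := B ⧸ q.asIdeal • (⊤ : Submodule L B)
    haveI : Module.Finite (L ⧸ q.asIdeal) Q := Module.Finite.of_restrictScalars_finite L _ _
    haveI : Nontrivial Q := Submodule.Quotient.nontrivial_iff.mpr (hne q)
    haveI : IsScalarTower k (L ⧸ q.asIdeal) Q := by
      refine ⟨fun c l x => ?_⟩
      obtain ⟨l, rfl⟩ := Ideal.Quotient.mk_surjective l
      obtain ⟨b, rfl⟩ := Submodule.Quotient.mk_surjective _ x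
      show Ideal.Quotient.mk q.asIdeal (c • l) • (Submodule.Quotient.mk b : Q) = _
      change (c • l) • (Submodule.Quotient.mk b : Q) = c • l • (Submodule.Quotient.mk b : Q)
      rw [smul_assoc]
    have hlin : ∀ (a : B) (x : B), x ∈ q.asIdeal • (⊤ : Submodule L B) →
        lam ι hmod a x ∈ q.asIdeal • (⊤ : Submodule L B) := fun a x hx => by
      have h3 : lam ι hmod a x ∈ Submodule.map (lam ι hmod a) (q.asIdeal • ⊤) := ⟨_, hx, rfl⟩
      rw [Submodule.map_smul''] at h3
      exact Submodule.smul_mono le_rfl le_top h3
    let lq : B →ₐ[k] Module.End (L ⧸ q.asIdeal) Q :=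
      { toFun := fun a =>
          { toFun := Submodule.mapQ _ _ (lam ι hmod a) (hlin a)
            map_add' := map_add _
            map_smul' := fun l x => by
              obtain ⟨l, rfl⟩ := Ideal.Quotient.mk_surjective l
              exact (Submodule.mapQ _ _ (lam ι hmod a) (hlin a)).map_smul l x }
        map_one' := LinearMap.ext fun x => by
          obtain ⟨b, rfl⟩ := Submodule.Quotient.mk_surjective _ x
          exact congrArg Submodule.Quotient.mk (one_mul b)
        map_mul' := fun a c => LinearMap.ext fun x => by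
          obtain ⟨b, rfl⟩ := Submodule.Quotient.mk_surjective _ x
          exact congrArg Submodule.Quotient.mk (mul_assoc a c b)
        map_zero' := LinearMap.ext fun x => by
          obtain ⟨b, rfl⟩ := Submodule.Quotient.mk_surjective _ x
          exact congrArg Submodule.Quotient.mk (zero_mul b)
        map_add' := fun a c => LinearMap.ext fun x => by
          obtain ⟨b, rfl⟩ := Submodule.Quotient.mk_surjective _ x
          exact congrArg Submodule.Quotient.mk (add_mul a c b)
        commutes' := fun c => LinearMap.ext fun x => by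
          obtain ⟨b, rfl⟩ := Submodule.Quotient.mk_surjective _ x
          exact congrArg Submodule.Quotient.mk (Algebra.smul_def c b).symm }
    let ψ : (L ⧸ q.asIdeal) ⊗[k] B →ₐ[L ⧸ q.asIdeal] Module.End (L ⧸ q.asIdeal) Q :=
      Algebra.TensorProduct.lift (Algebra.ofId _ _) lq (fun l a => Algebra.commutes l (lq a))
    haveI : IsSimpleRing ((L ⧸ q.asIdeal) ⊗[k] B) :=
      Groth.Agent.H29CSA.baseChange_isSimpleRing (k := k) B (L ⧸ q.asIdeal)
    haveI : Nontrivial (Module.End (L ⧸ q.asIdeal) Q) := by
      obtain ⟨x, hx⟩ := exists_ne (0 : Q)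
      exact nontrivial_of_ne 1 0 fun h => hx (LinearMap.congr_fun h x)
    have hψ : Function.Injective ψ := ψ.toRingHom.injective
    have hd := LinearMap.finrank_le_finrank_of_injective (f := ψ.toLinearMap) hψ
    rw [Module.finrank_baseChange, hB, Module.finrank_linearMap, ← pow_two] at hd
    have hr : r ≤ Module.finrank (L ⧸ q.asIdeal) Q := (Nat.pow_le_pow_iff_left two_ne_zero).mp hd
    let b := Module.finBasis (L ⧸ q.asIdeal) Q
    let φ : Q →ₗ[L ⧸ q.asIdeal] (Fin r → L ⧸ q.asIdeal) :=
      LinearMap.funLeft (L ⧸ q.asIdeal) (L ⧸ q.asIdeal) (Fin.castLE hr) ∘ₗ b.equivFun.toLinearMap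
    refine ⟨φ.restrictScalars L, ?_⟩
    exact (LinearMap.funLeft_surjective_of_injective (L ⧸ q.asIdeal) (L ⧸ q.asIdeal) (Fin.castLE hr) (Fin.castLE_injective hr)).comp
      b.equivFun.surjective
  choose φ hφ using hge
  let e := IsArtinianRing.equivPi L
  let Ψ : B →ₗ[L] (Fin r → L) :=
    { toFun := fun b i => e.symm fun q => φ q (Submodule.Quotient.mk b) i
      map_add' := fun a b => funext fun i => by
        rw [Pi.add_apply, ← map_add]
        congr 1
        funext q
        simp
      map_smul' := fun l b => funext fun i => by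
        rw [RingHom.id_apply, Pi.smul_apply, ← map_smul]
        congr 1
        funext q
        simp }
  have hΨ : Function.Surjective Ψ := by
    intro y
    choose b hb using fun q : MaximalSpectrum L =>
      ((hφ q).comp (Submodule.Quotient.mk_surjective _)) fun i => e (y i) q
    refine ⟨∑ q, (e.symm (Pi.single q 1)) • b q, funext fun i => e.injective ?_⟩
    show e (e.symm fun p => φ p (Submodule.Quotient.mk (∑ q, (e.symm (Pi.single q 1)) • b q)) i) =
      e (y i)
    rw [AlgEquiv.apply_symm_apply]
    funext p
    have hs : ∀ q, Ideal.Quotient.mk p.asIdeal (e.symm (Pi.single q 1)) =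
        (Pi.single q 1 : ∀ I : MaximalSpectrum L, L ⧸ I.asIdeal) p := fun q =>
      (IsArtinianRing.equivPi_apply L _ p).symm.trans
        (congrFun (e.apply_symm_apply (Pi.single q 1)) p)
    rw [show Submodule.Quotient.mk (∑ q, (e.symm (Pi.single q 1)) • b q) =
      (p.asIdeal • (⊤ : Submodule L B)).mkQ (∑ q, (e.symm (Pi.single q 1)) • b q) from rfl,
      map_sum, map_sum, Finset.sum_apply, Finset.sum_eq_single p]
    · rw [map_smul, map_smul, Pi.smul_apply]
      show Ideal.Quotient.mk p.asIdeal (e.symm (Pi.single p 1)) *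
        φ p (Submodule.Quotient.mk (b p)) i = _
      rw [hs, Pi.single_eq_same, one_mul]
      exact congrFun (hb p) i
    · intro q _ hq
      rw [map_smul, map_smul, Pi.smul_apply]
      show Ideal.Quotient.mk p.asIdeal (e.symm (Pi.single q 1)) * _ = 0
      rw [hs, Pi.single_eq_of_ne hq.symm, zero_mul]
    · simp
  have hdim : Module.finrank k B = Module.finrank k (Fin r → L) := by
    rw [hB, Module.finrank_pi_fintype k]
    simp [hL, pow_two]
  have hinj : Function.Injective (Ψ.restrictScalars k) :=
    (LinearMap.injective_iff_surjective_of_finrank_eq_finrank hdim).mpr hΨ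
  exact ⟨Module.Basis.ofEquivFun (LinearEquiv.ofBijective Ψ ⟨hinj, hΨ⟩)⟩

end Field

section Split

variable {R : Type u} [CommRing R]

/-- A split injective map between finite free modules of equal rank is bijective. -/
theorem bijective_of_leftInverse [Nontrivial R] {M : Type v} [AddCommGroup M] [Module R M]
    [Module.Free R M] [Module.Finite R M] {N : Type w} [AddCommGroup N] [Module R N] [Module.Free R N]
    [Module.Finite R N] (h : Module.finrank R M = Module.finrank R N) (f : M →ₗ[R] N)
    (g : N →ₗ[R] M) (hgf : g ∘ₗ f = LinearMap.id) : Function.Bijective f := by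
  let e : M ≃ₗ[R] N :=
    (Module.finBasisOfFinrankEq R M rfl).equiv (Module.finBasisOfFinrankEq R N h.symm) (Equiv.refl _)
  have hg : Function.Surjective g := fun x => ⟨f x, LinearMap.congr_fun hgf x⟩
  have hb : Function.Bijective (e.toLinearMap ∘ₗ g) :=
    OrzechProperty.bijective_of_surjective_endomorphism _ (e.surjective.comp hg)
  have hgi : Function.Injective g := fun a b hab => hb.1 (congrArg e hab)
  refine ⟨fun a b hab => ?_, fun y => ⟨g y, hgi (LinearMap.congr_fun hgf (g y))⟩⟩
  rw [← LinearMap.id_apply (R := R) a, ← LinearMap.id_apply (R := R) b, ← hgf,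
    LinearMap.comp_apply, LinearMap.comp_apply, hab]

end Split

section PhiBijective

variable {R : Type u} [CommRing R] [Nontrivial R] {A : Type v} [Ring A] [Algebra R A]
  [IsAzumaya R A] [Module.Free R A] {E : Type w} [CommRing E] [Algebra R E] [Module.Finite R E]
  [Module.Free R E] (u : E →ₐ[R] A) [Module E A] (hmod : ∀ (e : E) (a : A), e • a = a * u e)
  [IsScalarTower R E A]

theorem phi_bijective_of_split (s : A →ₗ[R] E) (hs : s ∘ₗ u.toLinearMap = LinearMap.id)
    {r : ℕ} (b : Module.Basis (Fin r) E A)
    (hA : Module.finrank R A = r ^ 2) (hE : Module.finrank R E = r) :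
    Function.Bijective (phi u hmod) := by
  haveI : SMulCommClass E R A := smulCommClass u hmod
  let eM : A ⊗[R] Aᵐᵒᵖ ≃ₗ[R] Module.End R A :=
    LinearEquiv.ofBijective (AlgHom.mulLeftRight R A).toLinearMap IsAzumaya.bij
  let res : Module.End E A →ₗ[R] Module.End R A :=
    { toFun := fun f => f.restrictScalars R
      map_add' := fun f g => rfl
      map_smul' := fun c f => rfl }
  let back : Module.End E A →ₗ[R] E ⊗[R] A :=
    (TensorProduct.comm R E A).symm.toLinearMap ∘ₗ
      LinearMap.lTensor A (s ∘ₗ (opLinearEquiv R (M := A)).symm.toLinearMap) ∘ₗ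
      eM.symm.toLinearMap ∘ₗ res
  let eN : Module.End E A ≃ₗ[R] Matrix (Fin r) (Fin r) E :=
    (algEquivMatrix b).toLinearEquiv.restrictScalars R
  haveI : Module.Free R (Module.End E A) := Module.Free.of_equiv eN.symm
  haveI : Module.Finite R (Module.End E A) := Module.Finite.equiv eN.symm
  have hdim : Module.finrank R (E ⊗[R] A) = Module.finrank R (Module.End E A) := by
    rw [eN.finrank_eq, Module.finrank_tensorProduct, Module.finrank_matrix, hA, hE, Fintype.card_fin]
    ring
  refine bijective_of_leftInverse hdim ((phi u hmod).toLinearMap.restrictScalars R) back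
    (LinearMap.ext fun z => ?_)
  have h1 : res (phi u hmod z) = eM (toOp u z) :=
    LinearMap.ext fun x => (mulLeftRight_toOp u hmod z x).symm
  show (TensorProduct.comm R E A).symm (LinearMap.lTensor A
      (s ∘ₗ (opLinearEquiv R (M := A)).symm.toLinearMap)
      (eM.symm (res (phi u hmod z)))) = z
  rw [h1, LinearEquiv.symm_apply_apply, toOp, LinearMap.comp_apply,
    ← LinearMap.comp_apply, ← LinearMap.lTensor_comp]
  have h2 : (s ∘ₗ (opLinearEquiv R (M := A)).symm.toLinearMap) ∘ₗ
      ((opLinearEquiv R (M := A)).toLinearMap ∘ₗ u.toLinearMap) = LinearMap.id := by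
    rw [← hs]
    exact LinearMap.ext fun e => by simp
  rw [h2, LinearMap.lTensor_id, LinearMap.id_apply]
  exact (TensorProduct.comm R E A).symm_apply_apply z

end PhiBijective

end H18Az.RightModule
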