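import Groth.Agent.H18Az.Local
import Groth.Agent.H18Az.RightModule
import Mathlib.RingTheory.Unramified.Field
import Mathlib.RingTheory.Etale.Basic
import Mathlib.RingTheory.Etale.QuasiFinite
import Mathlib.Tactic

/-! # Azumaya algebras over finite étale subalgebras of maximal rank -/

set_option autoImplicit false

universe u v w

open TensorProduct MulOpposite IsLocalRing

namespace H18Az.LocalModule


variable {R : Type u} [CommRing R] [IsLocalRing R] {A : Type v} [Ring A] [Algebra R A]
  [IsAzumaya R A] {E : Type w} [CommRing E] [Algebra R E] [Algebra.Etale R E] [Module.Finite R E]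
  [Module.Free R E] (u : E →ₐ[R] A) [Module E A] (hmod : ∀ (e : E) (a : A), e • a = a * u e)

local notation "κ" => IsLocalRing.ResidueField R

include hmod in
theorem nonempty_basis (hu : Function.Injective (u.toLinearMap.lTensor κ)) {r : ℕ}
    (hA : Module.finrank R A = r ^ 2) (hE : Module.finrank R E = r) :
    Nonempty (Module.Basis (Fin r) E A) := by
  haveI : Module.Free R A := Module.free_of_flat_of_isLocalRing
  haveI := (Local.residue_csa (R := R) (A := A)).1
  haveI := (Local.residue_csa (R := R) (A := A)).2
  haveI : IsScalarTower R E A := RightModule.isScalarTower u hmod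
  haveI : IsReduced (κ ⊗[R] E) := Algebra.FormallyUnramified.isReduced_of_field κ (κ ⊗[R] E)
  let ι : κ ⊗[R] E →ₐ[κ] κ ⊗[R] A := Algebra.TensorProduct.map (AlgHom.id κ κ) u
  have hι : Function.Injective ι := by
    have : (ι : κ ⊗[R] E → κ ⊗[R] A) = u.toLinearMap.lTensor κ := funext fun z => by
      induction z using TensorProduct.induction_on with
      | zero => simp
      | add a b ha hb => rw [map_add, map_add, ha, hb]
      | tmul c e => rfl
    rw [this]
    exact hu
  letI : Module (κ ⊗[R] E) (κ ⊗[R] A) :=
    { smul := fun l b => b * ι l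
      one_smul := fun b => show b * ι 1 = b by rw [map_one, mul_one]
      mul_smul := fun l m b => show b * ι (l * m) = b * ι m * ι l by
        rw [mul_assoc, ← map_mul, mul_comm l m]
      smul_zero := fun l => show (0 : κ ⊗[R] A) * ι l = 0 by rw [zero_mul]
      smul_add := fun l a b => show (a + b) * ι l = a * ι l + b * ι l by rw [add_mul]
      add_smul := fun l m b => show b * ι (l + m) = b * ι l + b * ι m by rw [map_add, mul_add]
      zero_smul := fun b => show b * ι 0 = 0 by rw [map_zero, mul_zero] }
  obtain ⟨β⟩ := RightModule.nonempty_basis ι hι (fun l b => rfl) (r := r)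
    (by rw [Module.finrank_baseChange, hA]) (by rw [Module.finrank_baseChange, hE])
  choose a ha using fun i => Local.mk_surjective (R := R) (A := A) (β i)
  let g : (Fin r → E) →ₗ[R] A :=
    ∑ i, (LinearMap.mulLeft R (a i) ∘ₗ u.toLinearMap ∘ₗ LinearMap.proj i)
  have hg : ∀ c, g c = ∑ i, a i * u (c i) := fun c => by simp [g, LinearMap.sum_apply]
  have hsurj : Function.Surjective g := by
    rw [← LinearMap.range_eq_top, ← IsLocalRing.map_tensorProduct_mk_eq_top, Submodule.eq_top_iff']
    intro b
    choose c hc using fun i => (Local.mk_surjective (R := R) (A := E)) (β.repr b i)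
    refine ⟨g c, LinearMap.mem_range_self g c, ?_⟩
    show (1 : κ) ⊗ₜ[R] g c = b
    conv_rhs => rw [← β.sum_repr b]
    rw [hg, TensorProduct.tmul_sum]
    refine Finset.sum_congr rfl fun i _ => ?_
    rw [← hc i, ← ha i]
    show (1 : κ) ⊗ₜ[R] (a i * u (c i)) = ((1 : κ) ⊗ₜ[R] a i) * ι ((1 : κ) ⊗ₜ[R] c i)
    simp [ι, Algebra.TensorProduct.tmul_mul_tmul]
  obtain ⟨s, hs⟩ := Module.projective_lifting_property g LinearMap.id hsurj
  have hdim : Module.finrank R A = Module.finrank R (Fin r → E) := by
    rw [Module.finrank_pi_fintype R, hA]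
    simp [hE, pow_two]
  have hbij : Function.Bijective g := by
    have hb := RightModule.bijective_of_leftInverse hdim s g hs
    refine ⟨fun x y hxy => ?_, hsurj⟩
    obtain ⟨x, rfl⟩ := hb.2 x
    obtain ⟨y, rfl⟩ := hb.2 y
    rw [← LinearMap.comp_apply, ← LinearMap.comp_apply, hs] at hxy
    rw [LinearMap.id_apply, LinearMap.id_apply] at hxy
    rw [hxy]
  let gE : (Fin r → E) →ₗ[E] A :=
    { toFun := g
      map_add' := g.map_add
      map_smul' := fun e c => by
        rw [RingHom.id_apply, hmod, hg, hg, Finset.sum_mul]
        refine Finset.sum_congr rfl fun i _ => ?_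
        rw [Pi.smul_apply, smul_eq_mul, mul_comm e, map_mul, mul_assoc] }
  exact ⟨Module.Basis.ofEquivFun (LinearEquiv.ofBijective gE hbij).symm⟩

include hmod in
theorem phi_bijective [IsScalarTower R E A] (hu : Function.Injective (u.toLinearMap.lTensor κ))
    {r : ℕ} (hA : Module.finrank R A = r ^ 2) (hE : Module.finrank R E = r) :
    Function.Bijective (RightModule.phi u hmod) := by
  haveI : Module.Free R A := Module.free_of_flat_of_isLocalRing
  obtain ⟨b⟩ := nonempty_basis u hmod hu hA hE
  obtain ⟨s, hs⟩ := (IsLocalRing.split_injective_iff_lTensor_residueField_injective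
    u.toLinearMap).mpr hu
  exact RightModule.phi_bijective_of_split u hmod s hs b hA hE

end H18Az.LocalModule
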