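import Groth.Agent.H18Az.Spread
import Groth.Agent.H18Az.EtaleSub
import Groth.Agent.H18Az.RightModule
import Groth.Agent.H18Az.Criterion
import Mathlib.Tactic

/-! # Azumaya algebras are split by finite étale covers locally on the base -/

set_option autoImplicit false

universe u v

open TensorProduct Polynomial

namespace H18Az.SplitNear

section Extend

variable {R : Type u} [CommRing R] {M : Type v} [AddCommGroup M] [Module R M] [Module.Finite R M]

theorem exists_extension (p : Ideal R) [p.IsPrime] {α : Type} [Fintype α] (v : α → M)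
    (h : LinearIndependent p.ResidueField fun i => (1 : p.ResidueField) ⊗ₜ[R] v i) :
    ∃ (n : ℕ) (d : Fin n → M) (b : Module.Basis (α ⊕ Fin n) p.ResidueField (p.ResidueField ⊗[R] M)),
      ∀ i, b i = (1 : p.ResidueField) ⊗ₜ[R] Sum.elim v d i := by
  let L := Submodule.span p.ResidueField (Set.range fun i => (1 : p.ResidueField) ⊗ₜ[R] v i)
  obtain ⟨D, hD⟩ := L.exists_isCompl
  haveI : Module.Free p.ResidueField D := Module.Free.of_basis (Module.Basis.ofVectorSpace p.ResidueField D)
  let c0 := Module.finBasis p.ResidueField D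
  choose c d hc hd using fun j => Spread.residue_denom p ((c0 j : D) : p.ResidueField ⊗[R] M)
  let c1 := c0.unitsSMul fun j => Units.mk0 (c j) (hc j)
  refine ⟨_, d, ((Module.Basis.span h).prod c1).map (Submodule.prodEquivOfIsCompl L D hD),
    fun i => ?_⟩
  cases i with
  | inl i => simp [Module.Basis.span_apply]
  | inr j =>
    have hc1 : ((c1 j : D) : p.ResidueField ⊗[R] M) = (1 : p.ResidueField) ⊗ₜ[R] d j := by
      simp [c1, Module.Basis.unitsSMul_apply, Units.smul_def, hd]
    simp [hc1]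

end Extend

section Data

variable {R : Type u} [CommRing R] (A : Type u) [Ring A] [Algebra R A] [IsAzumaya R A]
  (p : Ideal R) [p.IsPrime]

/-- The choice, over the residue field at `p`, of everything used to split `A` near `p`. -/
theorem exists_data : ∃ (r : ℕ) (ξ : A) (n : ℕ) (d : Fin n → A) (a : Fin r → A) (n' : ℕ)
      (e : Fin n' → A) (b₁ : Module.Basis (Fin r ⊕ Fin n) p.ResidueField (p.ResidueField ⊗[R] A))
      (b₂ : Module.Basis (Fin r × Fin r) p.ResidueField (p.ResidueField ⊗[R] A))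
      (b₃ : Module.Basis (Fin n ⊕ Fin n') p.ResidueField (p.ResidueField ⊗[R] A)),
      1 ≤ r ∧ Module.finrank p.ResidueField (p.ResidueField ⊗[R] A) = r ^ 2 ∧
      (minpoly p.ResidueField ((1 : p.ResidueField) ⊗ₜ[R] ξ)).Separable ∧
      (minpoly p.ResidueField ((1 : p.ResidueField) ⊗ₜ[R] ξ)).natDegree = r ∧
      (∀ i, b₁ i = (1 : p.ResidueField) ⊗ₜ[R] Sum.elim (fun i : Fin r => ξ ^ (i : ℕ)) d i) ∧
      (∀ ij, b₂ ij = (1 : p.ResidueField) ⊗ₜ[R] (a ij.2 * ξ ^ (ij.1 : ℕ))) ∧
      (∀ i, b₃ i = (1 : p.ResidueField) ⊗ₜ[R] Sum.elim (fun j => d j * ξ - ξ * d j) e i) := by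
  haveI : IsAzumaya p.ResidueField (p.ResidueField ⊗[R] A) :=
    Groth.Agent.H23Az.isAzumaya_baseChange R p.ResidueField A
  obtain ⟨hcen, hsimp⟩ := (Criterion.isAzumaya_field_iff p.ResidueField
    (p.ResidueField ⊗[R] A)).mp this
  haveI := hcen
  haveI := hsimp
  obtain ⟨r, hr⟩ := Groth.Agent.H29CSA.finrank_isSquare (k := p.ResidueField)
    (p.ResidueField ⊗[R] A)
  rw [← pow_two] at hr
  obtain ⟨x₀, hsep₀, hdeg₀⟩ := Generic.exists_separable_element p.ResidueField
    (p.ResidueField ⊗[R] A) r hr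
  obtain ⟨c, ξ, hc, hcξ⟩ := Spread.residue_denom p x₀
  set y : p.ResidueField ⊗[R] A := (1 : p.ResidueField) ⊗ₜ[R] ξ with hy
  have hadj : Algebra.adjoin p.ResidueField ({y} : Set (p.ResidueField ⊗[R] A)) =
      Algebra.adjoin p.ResidueField {x₀} := by
    refine le_antisymm (Algebra.adjoin_le ?_) (Algebra.adjoin_le ?_) <;>
      rw [Set.singleton_subset_iff, SetLike.mem_coe]
    · rw [← hcξ]
      exact Subalgebra.smul_mem _ (Algebra.self_mem_adjoin_singleton _ _) _
    · have : x₀ = c⁻¹ • y := by rw [← hcξ, smul_smul, inv_mul_cancel₀ hc, one_smul]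
      rw [this]
      exact Subalgebra.smul_mem _ (Algebra.self_mem_adjoin_singleton _ _) _
  have hyi : IsIntegral p.ResidueField y := Algebra.IsIntegral.isIntegral y
  have hx₀i : IsIntegral p.ResidueField x₀ := Algebra.IsIntegral.isIntegral x₀
  have hsep : (minpoly p.ResidueField y).Separable := by
    refine Separable.separable_minpoly_of_adjoin ?_
    rw [hadj]
    exact Separable.separable_of_mem_adjoin hx₀i hsep₀
  have hdeg : (minpoly p.ResidueField y).natDegree = r := by
    rw [← Separable.finrank_adjoin hyi, hadj, Separable.finrank_adjoin hx₀i, hdeg₀]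
  have hr1 : 1 ≤ r := hdeg ▸ minpoly.natDegree_pos hyi
  have himg : ∀ i : ℕ, (1 : p.ResidueField) ⊗ₜ[R] (ξ ^ i) = y ^ i := fun i => by
    rw [hy, Algebra.TensorProduct.tmul_pow, one_pow]
  have hli : LinearIndependent p.ResidueField
      fun i : Fin r => (1 : p.ResidueField) ⊗ₜ[R] (ξ ^ (i : ℕ)) := by
    simp only [himg]
    exact hdeg ▸ linearIndependent_pow y
  obtain ⟨n, d, b₁, hb₁⟩ := exists_extension p (fun i : Fin r => ξ ^ (i : ℕ)) hli
  let adB : p.ResidueField ⊗[R] A →ₗ[p.ResidueField] p.ResidueField ⊗[R] A :=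
    LinearMap.mulRight p.ResidueField y - LinearMap.mulLeft p.ResidueField y
  have hker : LinearMap.ker adB = Submodule.span p.ResidueField
      (b₁ '' Set.range (Sum.inl : Fin r → Fin r ⊕ Fin n)) := by
    have h1 : b₁ '' Set.range (Sum.inl : Fin r → Fin r ⊕ Fin n) =
        Set.range fun i : Fin r => y ^ (i : ℕ) := by
      rw [← Set.range_comp]
      congr 1
      exact funext fun i => (hb₁ _).trans (himg _)
    have h2 := Separable.adjoin_toSubmodule_eq_span hyi
    rw [hdeg] at h2
    rw [h1, ← h2, ← Separable.centralizer_eq_adjoin hr y hsep hdeg]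
    ext z
    rw [LinearMap.mem_ker, Subalgebra.mem_toSubmodule, Subalgebra.mem_centralizer_iff]
    simp only [adB, LinearMap.sub_apply, LinearMap.mulRight_apply, LinearMap.mulLeft_apply,
      sub_eq_zero, Set.mem_singleton_iff, forall_eq]
    exact eq_comm
  have hadd : LinearIndependent p.ResidueField
      fun j => (1 : p.ResidueField) ⊗ₜ[R] (d j * ξ - ξ * d j) := by
    have e : (fun j => (1 : p.ResidueField) ⊗ₜ[R] (d j * ξ - ξ * d j)) =
        adB ∘ (b₁ ∘ Sum.inr) := funext fun j => by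
      simp [adB, hb₁, hy, TensorProduct.tmul_sub]
    rw [e]
    refine (b₁.linearIndependent.comp _ Sum.inr_injective).map ?_
    rw [hker, Set.range_comp]
    exact (b₁.linearIndependent.disjoint_span_image
      (Set.isCompl_range_inl_range_inr.disjoint)).symm
  obtain ⟨n', e, b₃, hb₃⟩ := exists_extension p (fun j => d j * ξ - ξ * d j) hadd
  let E₀ := AdjoinRoot (minpoly p.ResidueField y)
  haveI : Algebra.Etale p.ResidueField E₀ := EtaleSub.etale_adjoinRoot (minpoly.monic hyi) hsep
  haveI : IsReduced E₀ := Algebra.FormallyUnramified.isReduced_of_field p.ResidueField E₀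
  let ι : E₀ →ₐ[p.ResidueField] p.ResidueField ⊗[R] A :=
    Ideal.Quotient.liftₐ (Ideal.span {minpoly p.ResidueField y}) (aeval y) fun a ha => by
      obtain ⟨b, rfl⟩ := Ideal.mem_span_singleton.mp ha
      rw [map_mul, minpoly.aeval, zero_mul]
  have hι : Function.Injective ι := by
    rw [injective_iff_map_eq_zero]
    intro q hq
    obtain ⟨q, rfl⟩ := AdjoinRoot.mk_surjective q
    exact AdjoinRoot.mk_eq_zero.mpr (minpoly.dvd _ _ hq)
  let pb := AdjoinRoot.powerBasis (minpoly.ne_zero hyi)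
  have hpdim : pb.dim = r := by rw [AdjoinRoot.powerBasis_dim, hdeg]
  letI : Module E₀ (p.ResidueField ⊗[R] A) :=
    { smul := fun l b => b * ι l
      one_smul := fun b => show b * ι 1 = b by rw [map_one, mul_one]
      mul_smul := fun l m b => show b * ι (l * m) = b * ι m * ι l by
        rw [mul_assoc, ← map_mul, mul_comm l m]
      smul_zero := fun l => show (0 : p.ResidueField ⊗[R] A) * ι l = 0 by rw [zero_mul]
      smul_add := fun l a b => show (a + b) * ι l = a * ι l + b * ι l by rw [add_mul]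
      add_smul := fun l m b => show b * ι (l + m) = b * ι l + b * ι m by rw [map_add, mul_add]
      zero_smul := fun b => show b * ι 0 = 0 by rw [map_zero, mul_zero] }
  haveI : IsScalarTower p.ResidueField E₀ (p.ResidueField ⊗[R] A) :=
    RightModule.isScalarTower ι fun l b => rfl
  obtain ⟨β⟩ := RightModule.nonempty_basis ι hι (fun l b => rfl) hr
    (by rw [pb.finrank, hpdim])
  choose cβ a hcβ haβ using fun i => Spread.residue_denom p (β i)
  let β' := β.unitsSMul fun i =>
    Units.map (algebraMap p.ResidueField E₀).toMonoidHom (Units.mk0 (cβ i) (hcβ i))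
  have hβ' : ∀ i, β' i = (1 : p.ResidueField) ⊗ₜ[R] a i := fun i => by
    show _ = _
    rw [Module.Basis.unitsSMul_apply, Units.smul_def, Units.coe_map, RingHom.toMonoidHom_eq_coe,
      MonoidHom.coe_coe, Units.val_mk0, algebraMap_smul, haβ]
  refine ⟨r, ξ, n, d, a, n', e, b₁,
    (pb.basis.smulTower β').reindex (Equiv.prodCongr (finCongr hpdim) (Equiv.refl _)), b₃,
    hr1, hr, hsep, hdeg, hb₁, fun ij => ?_, hb₃⟩
  rw [Module.Basis.reindex_apply, Module.Basis.smulTower_apply, pb.coe_basis]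
  show β' ij.2 * ι (AdjoinRoot.root _ ^ _) = _
  rw [hβ', map_pow]
  show _ * aeval y X ^ _ = _
  rw [aeval_X, ← himg, Algebra.TensorProduct.tmul_mul_tmul, mul_one]
  rfl

end Data

section Over

variable {S : Type u} [CommRing S] {B : Type u} [Ring B] [Algebra S B] {r n n' : ℕ} {ξ : B}
  {d : Fin n → B} {e : Fin n' → B}

theorem exists_relation
    (w₁ : Module.Basis (Fin r ⊕ Fin n) S B)
    (hw₁ : ∀ i, w₁ i = Sum.elim (fun i : Fin r => ξ ^ (i : ℕ)) d i)
    (w₃ : Module.Basis (Fin n ⊕ Fin n') S B)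
    (hw₃ : ∀ i, w₃ i = Sum.elim (fun j => d j * ξ - ξ * d j) e i) :
    ∃ c : Fin r → S, ξ ^ r = ∑ i, c i • ξ ^ (i : ℕ) := by
  refine ⟨fun i => w₁.repr (ξ ^ r) (Sum.inl i), ?_⟩
  let ad : B →ₗ[S] B := LinearMap.mulRight S ξ - LinearMap.mulLeft S ξ
  have h1 : ξ ^ r = (∑ i, w₁.repr (ξ ^ r) (Sum.inl i) • ξ ^ (i : ℕ)) +
      ∑ j, w₁.repr (ξ ^ r) (Sum.inr j) • d j := by
    conv_lhs => rw [← w₁.sum_repr (ξ ^ r)]
    rw [Fintype.sum_sum_type]
    simp [hw₁]
  have hpow : ∀ i : ℕ, ad (ξ ^ i) = 0 := fun i => by simp [ad, ← pow_succ, ← pow_succ']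
  have h2 : ∑ j, w₁.repr (ξ ^ r) (Sum.inr j) • w₃ (Sum.inl j) = 0 := by
    have h3 := congrArg ad h1
    rw [hpow, map_add, map_sum, map_sum] at h3
    simp only [map_smul, hpow, smul_zero, Finset.sum_const_zero, zero_add] at h3
    simp only [hw₃, Sum.elim_inl]
    exact h3.symm
  have h4 : ∀ j, w₁.repr (ξ ^ r) (Sum.inr j) = 0 :=
    Fintype.linearIndependent_iff.mp (w₃.linearIndependent.comp _ Sum.inl_injective) _ h2
  conv_lhs => rw [h1]
  simp [h4]

theorem exists_split [Nontrivial S] [IsAzumaya S B] (hr : 1 ≤ r) {f : S[X]} (hf : f.Monic)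
    (hdeg : f.natDegree = r) (hξ : aeval ξ f = 0) (hcop : IsCoprime f (derivative f))
    (w₁ : Module.Basis (Fin r ⊕ Fin n) S B)
    (hw₁ : ∀ i, w₁ i = Sum.elim (fun i : Fin r => ξ ^ (i : ℕ)) d i) {a : Fin r → B}
    (w₂ : Module.Basis (Fin r × Fin r) S B) (hw₂ : ∀ ij, w₂ ij = a ij.2 * ξ ^ (ij.1 : ℕ)) :
    Algebra.Etale S (AdjoinRoot f) ∧ Module.Finite S (AdjoinRoot f) ∧
      Module.FaithfullyFlat S (AdjoinRoot f) ∧
      Nonempty ((AdjoinRoot f ⊗[S] B) ≃ₐ[AdjoinRoot f] Matrix (Fin r) (Fin r) (AdjoinRoot f)) := by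
  let pb := AdjoinRoot.powerBasis' hf
  have hdim : pb.dim = r := by rw [AdjoinRoot.powerBasis'_dim, hdeg]
  let bR : Module.Basis (Fin r) S (AdjoinRoot f) := pb.basis.reindex (finCongr hdim)
  have hbR : ∀ i, bR i = AdjoinRoot.root f ^ (i : ℕ) := fun i => by
    simp [bR, pb, PowerBasis.coe_basis]
  haveI : Module.Free S (AdjoinRoot f) := Module.Free.of_basis bR
  haveI : Module.Finite S (AdjoinRoot f) := Module.Finite.of_basis bR
  haveI : Nontrivial (AdjoinRoot f) := ⟨⟨bR ⟨0, hr⟩, 0, bR.ne_zero _⟩⟩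
  haveI : Module.Free S B := Module.Free.of_basis w₁
  let u : AdjoinRoot f →ₐ[S] B :=
    Ideal.Quotient.liftₐ (Ideal.span {f}) (aeval ξ) fun x hx => by
      obtain ⟨q, rfl⟩ := Ideal.mem_span_singleton.mp hx
      rw [map_mul, hξ, zero_mul]
  have hu : ∀ i : ℕ, u (AdjoinRoot.root f ^ i) = ξ ^ i := fun i => by
    rw [map_pow]
    exact congrArg (· ^ i) (aeval_X ξ)
  letI : Module (AdjoinRoot f) B :=
    { smul := fun l b => b * u l
      one_smul := fun b => show b * u 1 = b by rw [map_one, mul_one]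
      mul_smul := fun l m b => show b * u (l * m) = b * u m * u l by
        rw [mul_assoc, ← map_mul, mul_comm l m]
      smul_zero := fun l => show (0 : B) * u l = 0 by rw [zero_mul]
      smul_add := fun l a b => show (a + b) * u l = a * u l + b * u l by rw [add_mul]
      add_smul := fun l m b => show b * u (l + m) = b * u l + b * u m by rw [map_add, mul_add]
      zero_smul := fun b => show b * u 0 = 0 by rw [map_zero, mul_zero] }
  haveI : IsScalarTower S (AdjoinRoot f) B := RightModule.isScalarTower u fun l b => rfl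
  let g : (Fin r → AdjoinRoot f) →ₗ[AdjoinRoot f] B := Fintype.linearCombination (AdjoinRoot f) a
  let pbF : Module.Basis (Fin r × Fin r) S (Fin r → AdjoinRoot f) :=
    bR.smulTower (Pi.basisFun (AdjoinRoot f) (Fin r))
  have hg : ⇑g = ⇑(pbF.equiv w₂ (Equiv.refl _)) := by
    have h : g.restrictScalars S = (pbF.equiv w₂ (Equiv.refl _)).toLinearMap := pbF.ext fun ij => by
      rw [LinearEquiv.coe_coe, Module.Basis.equiv_apply, Equiv.refl_apply, hw₂,
        LinearMap.restrictScalars_apply, Module.Basis.smulTower_apply, map_smul,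
        Pi.basisFun_apply, Fintype.linearCombination_apply_single, one_smul, hbR]
      show a ij.2 * u (AdjoinRoot.root f ^ (ij.1 : ℕ)) = _
      rw [hu]
    exact congrArg DFunLike.coe h
  let b : Module.Basis (Fin r) (AdjoinRoot f) B := Module.Basis.ofEquivFun
    (LinearEquiv.ofBijective g (hg ▸ (pbF.equiv w₂ (Equiv.refl _)).bijective)).symm
  let sret : B →ₗ[S] AdjoinRoot f :=
    w₁.constr S (Sum.elim (fun i : Fin r => AdjoinRoot.root f ^ (i : ℕ)) fun _ => 0)
  have hs : sret ∘ₗ u.toLinearMap = LinearMap.id := bR.ext fun i => by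
    rw [LinearMap.comp_apply, AlgHom.toLinearMap_apply, hbR, hu,
      show ξ ^ (i : ℕ) = w₁ (Sum.inl i) from (hw₁ (Sum.inl i)).symm, Module.Basis.constr_basis,
      Sum.elim_inl, LinearMap.id_apply]
  have hB : Module.finrank S B = r ^ 2 := by
    rw [Module.finrank_eq_card_basis w₂, Fintype.card_prod, Fintype.card_fin, pow_two]
  have hE : Module.finrank S (AdjoinRoot f) = r := by
    rw [Module.finrank_eq_card_basis bR, Fintype.card_fin]
  have hphi := RightModule.phi_bijective_of_split u (fun l x => rfl) sret hs b hB hE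
  refine ⟨EtaleSub.etale_adjoinRoot hf hcop, inferInstance, inferInstance,
    ⟨(AlgEquiv.ofBijective _ hphi).trans (algEquivMatrix b)⟩⟩

end Over

section Main

variable {R : Type u} [CommRing R] (A : Type u) [Ring A] [Algebra R A] [IsAzumaya R A]

/-- `E ⊗[T] (T ⊗[R] A) ≃ E ⊗[R] A` for a non-commutative `A`. -/
noncomputable def cancelAlg (R T E A : Type u) [CommRing R] [CommRing T] [CommRing E] [Algebra R T]
    [Algebra R E] [Algebra T E] [IsScalarTower R T E] [Ring A] [Algebra R A] :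
    E ⊗[T] (T ⊗[R] A) ≃ₐ[E] E ⊗[R] A :=
  (AlgEquiv.ofLinearEquiv (TensorProduct.AlgebraTensorModule.cancelBaseChange R T E E A).symm
    (by simp [Algebra.TensorProduct.one_def])
    (LinearMap.map_mul_of_map_mul_tmul fun _ _ _ _ => by
      simp [Algebra.TensorProduct.tmul_mul_tmul])).symm

/-- `r` and the monic relation of the section `ξ` over a localisation. -/
theorem split_near (p : Ideal R) [p.IsPrime] :
    ∃ f : R, f ∉ p ∧ ∃ (R' : Type u) (_ : CommRing R') (_ : Algebra R R')
      (_ : Algebra (Localization.Away f) R') (_ : IsScalarTower R (Localization.Away f) R'),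
      Module.Finite (Localization.Away f) R' ∧ Algebra.Etale (Localization.Away f) R' ∧
      Module.FaithfullyFlat (Localization.Away f) R' ∧
      ∃ r : ℕ, 1 ≤ r ∧ Nonempty ((R' ⊗[R] A) ≃ₐ[R'] Matrix (Fin r) (Fin r) R') := by
  classical
  obtain ⟨r, ξ, n, d, a, n', e, b₁, b₂, b₃, hr1, -, hsep, hdeg, hb₁, hb₂, hb₃⟩ := exists_data A p
  obtain ⟨g₁, hg₁, H₁⟩ := Spread.exists_basis_away p _ b₁ hb₁
  obtain ⟨g₂, hg₂, H₂⟩ := Spread.exists_basis_away p _ b₂ hb₂
  obtain ⟨g₃, hg₃, H₃⟩ := Spread.exists_basis_away p _ b₃ hb₃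
  let g := g₁ * g₂ * g₃
  have hg : g ∉ p := p.primeCompl.mul_mem (p.primeCompl.mul_mem hg₁ hg₂) hg₃
  have hgu : IsUnit (algebraMap R p.ResidueField g) := by
    rw [isUnit_iff_ne_zero, Ne, Ideal.algebraMap_residueField_eq_zero]
    exact hg
  let S := Localization.Away g
  let toK : S →ₐ[R] p.ResidueField := IsLocalization.liftAlgHom (M := Submonoid.powers g)
    (f := Algebra.ofId R p.ResidueField) (by
      rintro ⟨_, m, rfl⟩
      show IsUnit (algebraMap R p.ResidueField (g ^ m))
      rw [map_pow]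
      exact hgu.pow m)
  obtain ⟨w₁, hw₁⟩ := H₁ g ⟨g₂ * g₃, by ring⟩
  obtain ⟨w₃, hw₃⟩ := H₃ g ⟨g₁ * g₂, by ring⟩
  obtain ⟨c, hc⟩ := exists_relation (ξ := (1 : S) ⊗ₜ[R] ξ) (d := fun j => (1 : S) ⊗ₜ[R] d j)
    (e := fun j => (1 : S) ⊗ₜ[R] e j) w₁ (fun i => by
      rw [hw₁]
      cases i <;> simp [Algebra.TensorProduct.tmul_pow])
    w₃ (fun i => by
      rw [hw₃]
      cases i <;> simp [Algebra.TensorProduct.tmul_mul_tmul, TensorProduct.tmul_sub])
  let q : S[X] := ∑ i : Fin r, monomial (i : ℕ) (c i)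
  have hq : q.degree < (r : WithBot ℕ) := by
    refine (degree_sum_le _ _).trans_lt ((Finset.sup_lt_iff (WithBot.bot_lt_coe r)).mpr fun i _ => ?_)
    exact (degree_monomial_le _ _).trans_lt (Nat.cast_lt.mpr i.2)
  let F : S[X] := X ^ r - q
  have hF : F.Monic := monic_X_pow_sub hq
  haveI : Nontrivial S := toK.toRingHom.domain_nontrivial
  have hFdeg : F.natDegree = r := by
    refine natDegree_eq_of_degree_eq_some ?_
    rw [show F = X ^ r - q from rfl, degree_sub_eq_left_of_degree_lt, degree_X_pow]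
    rwa [degree_X_pow]
  have hF0 : aeval ((1 : S) ⊗ₜ[R] ξ) F = 0 := by
    simp only [F, q, map_sub, map_pow, aeval_X, map_sum, aeval_monomial, ← Algebra.smul_def, hc,
      sub_self]
  have hmap : F.map toK.toRingHom =
      minpoly p.ResidueField ((1 : p.ResidueField) ⊗ₜ[R] ξ) := by
    letI : Algebra S p.ResidueField := toK.toRingHom.toAlgebra
    haveI : IsScalarTower R S p.ResidueField :=
      IsScalarTower.of_algebraMap_eq fun x => (toK.commutes x).symm
    let m : S ⊗[R] A →ₐ[S] p.ResidueField ⊗[R] A :=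
      Algebra.TensorProduct.map (Algebra.ofId S p.ResidueField) (AlgHom.id R A)
    have hy : IsIntegral p.ResidueField ((1 : p.ResidueField) ⊗ₜ[R] ξ) :=
      Algebra.IsIntegral.isIntegral _
    refine eq_of_monic_of_dvd_of_natDegree_le (minpoly.monic hy) (hF.map _) (minpoly.dvd _ _ ?_) ?_
    · have h1 : m ((1 : S) ⊗ₜ[R] ξ) = (1 : p.ResidueField) ⊗ₜ[R] ξ := by simp [m]
      rw [← h1, show F.map toK.toRingHom = F.map (algebraMap S p.ResidueField) from rfl,
        aeval_map_algebraMap, aeval_algHom_apply, hF0, map_zero]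
    · rw [hF.natDegree_map, hFdeg]
      exact hdeg.ge
  obtain ⟨⟨t, s⟩, hst⟩ := IsLocalization.surj (Submonoid.powers g)
    (resultant F (derivative F) r (r - 1))
  have ht : t ∉ p := by
    intro htp
    have h0 := congrArg toK hst
    rw [map_mul, AlgHom.commutes, AlgHom.commutes, (Ideal.algebraMap_residueField_eq_zero).mpr htp,
      mul_eq_zero] at h0
    rcases h0 with h0 | h0
    · have h1 : resultant (F.map toK.toRingHom) (derivative (F.map toK.toRingHom)) r (r - 1) = 0 := by
        rw [derivative_map, resultant_map_map]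
        exact h0
      exact (Generic.separable_iff_resultant (hF.map _)
        (by rw [hF.natDegree_map, hFdeg])).mp (hmap ▸ hsep) h1
    · obtain ⟨_, m, rfl⟩ := s
      rw [map_pow] at h0
      exact (hgu.pow m).ne_zero h0
  refine ⟨g * t, fun h => (Ideal.IsPrime.mem_or_mem ‹_› h).elim hg ht, ?_⟩
  let T := Localization.Away (g * t)
  have hgtu : IsUnit (algebraMap R p.ResidueField (g * t)) := by
    rw [map_mul]
    refine hgu.mul ?_
    rw [isUnit_iff_ne_zero, Ne, Ideal.algebraMap_residueField_eq_zero]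
    exact ht
  let σ : S →+* T := IsLocalization.Away.awayToAwayRight g t
  letI : Algebra S T := σ.toAlgebra
  haveI : IsScalarTower R S T := IsScalarTower.of_algebraMap_eq fun x =>
    (IsLocalization.Away.awayToAwayRight_eq g t x).symm
  let toK' : T →ₐ[R] p.ResidueField := IsLocalization.liftAlgHom (M := Submonoid.powers (g * t))
    (f := Algebra.ofId R p.ResidueField) (by
      rintro ⟨_, m, rfl⟩
      show IsUnit (algebraMap R p.ResidueField ((g * t) ^ m))
      rw [map_pow]
      exact hgtu.pow m)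
  haveI : Nontrivial T := toK'.toRingHom.domain_nontrivial
  obtain ⟨v₁, hv₁⟩ := H₁ (g * t) ⟨g₂ * g₃ * t, by ring⟩
  obtain ⟨v₂, hv₂⟩ := H₂ (g * t) ⟨g₁ * g₃ * t, by ring⟩
  haveI : IsAzumaya T (T ⊗[R] A) := Groth.Agent.H23Az.isAzumaya_baseChange R T A
  have hFT0 : aeval ((1 : T) ⊗ₜ[R] ξ) (F.map σ) = 0 := by
    let m : S ⊗[R] A →ₐ[S] T ⊗[R] A :=
      Algebra.TensorProduct.map (Algebra.ofId S T) (AlgHom.id R A)
    have h1 : m ((1 : S) ⊗ₜ[R] ξ) = (1 : T) ⊗ₜ[R] ξ := by simp [m]
    rw [← h1, show F.map σ = F.map (algebraMap S T) from rfl, aeval_map_algebraMap,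
      aeval_algHom_apply, hF0, map_zero]
  have hTdeg : (F.map σ).natDegree = r := by rw [hF.natDegree_map, hFdeg]
  have hcop : IsCoprime (F.map σ) (derivative (F.map σ)) := by
    have h2 : IsUnit (σ (resultant F (derivative F) r (r - 1))) := by
      have h3 := congrArg σ hst
      rw [map_mul] at h3
      have h4 : IsUnit (σ (algebraMap R S t)) := by
        have h5 : σ (algebraMap R S t) = algebraMap R T t :=
          IsLocalization.Away.awayToAwayRight_eq g t t
        rw [h5]
        exact isUnit_of_dvd_unit (map_dvd _ (dvd_mul_left t g))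
          (IsLocalization.Away.algebraMap_isUnit (g * t))
      exact isUnit_of_mul_isUnit_left (h3 ▸ h4)
    rw [← resultant_map_map, ← derivative_map] at h2
    obtain ⟨j, hj⟩ := Nat.le.dest (hTdeg ▸ natDegree_derivative_le (F.map σ))
    rw [← hj, resultant_add_right_deg _ _ _ _ _ le_rfl,
      show (F.map σ).coeff r = 1 from hTdeg ▸ (hF.map σ).coeff_natDegree,
      one_pow, one_mul, ← hTdeg] at h2
    exact (isUnit_resultant_iff_isCoprime (hF.map σ)).mp h2
  obtain ⟨het, hfin, hff, ⟨E⟩⟩ := exists_split (ξ := (1 : T) ⊗ₜ[R] ξ)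
    (d := fun j => (1 : T) ⊗ₜ[R] d j) (a := fun i => (1 : T) ⊗ₜ[R] a i) hr1 (hF.map σ) hTdeg hFT0
    hcop v₁ (fun i => by
      rw [hv₁]
      cases i <;> simp [Algebra.TensorProduct.tmul_pow])
    v₂ (fun ij => by
      rw [hv₂]
      simp [Algebra.TensorProduct.tmul_pow, Algebra.TensorProduct.tmul_mul_tmul])
  exact ⟨AdjoinRoot (F.map σ), inferInstance, inferInstance, inferInstance, inferInstance,
    hfin, het, hff, r, hr1, ⟨(cancelAlg R T (AdjoinRoot (F.map σ)) A).symm.trans E⟩⟩

end Main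

end H18Az.SplitNear
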