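import Mathlib.Algebra.Module.FinitePresentation
import Mathlib.RingTheory.LocalRing.Module
import Mathlib.RingTheory.Localization.BaseChange
import Mathlib.RingTheory.Localization.Module
import Mathlib.RingTheory.LocalRing.ResidueField.Ideal
import Mathlib.RingTheory.TensorProduct.Free

/-! # Spreading out bases of finite projective modules -/

set_option autoImplicit false

universe u v

open TensorProduct

namespace H18Az.Spread

variable {R : Type u} [CommRing R] {M : Type v} [AddCommGroup M] [Module R M]

theorem residue_denom (p : Ideal R) [p.IsPrime] (z : p.ResidueField ⊗[R] M) :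
    ∃ (c : p.ResidueField) (a : M), c ≠ 0 ∧ c • z = (1 : p.ResidueField) ⊗ₜ[R] a := by
  have hs : ∀ k : p.ResidueField, ∃ s t : R, algebraMap R p.ResidueField s ≠ 0 ∧
      algebraMap R p.ResidueField s * k = algebraMap R p.ResidueField t := fun k => by
    obtain ⟨q, rfl⟩ := IsLocalRing.residue_surjective k
    obtain ⟨⟨t, s⟩, hq⟩ := IsLocalization.surj p.primeCompl q
    refine ⟨s, t, fun h0 => s.2 ?_, ?_⟩
    · rwa [Ideal.algebraMap_residueField_eq_zero] at h0
    · rw [IsScalarTower.algebraMap_apply R (Localization.AtPrime p) p.ResidueField,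
        IsScalarTower.algebraMap_apply R (Localization.AtPrime p) p.ResidueField,
        IsLocalRing.ResidueField.algebraMap_eq, ← map_mul, mul_comm, hq]
  suffices ∃ (s : R) (a : M), algebraMap R p.ResidueField s ≠ 0 ∧
      algebraMap R p.ResidueField s • z = (1 : p.ResidueField) ⊗ₜ[R] a by
    obtain ⟨s, a, h1, h2⟩ := this
    exact ⟨_, a, h1, h2⟩
  induction z using TensorProduct.induction_on with
  | zero => exact ⟨1, 0, by simp, by simp⟩
  | tmul k m =>
    obtain ⟨s, t, h1, h2⟩ := hs k
    refine ⟨s, t • m, h1, ?_⟩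
    rw [smul_tmul', smul_eq_mul, h2, Algebra.algebraMap_eq_smul_one, smul_tmul]
  | add x y hx hy =>
    obtain ⟨s₁, a₁, h1, e1⟩ := hx
    obtain ⟨s₂, a₂, h2, e2⟩ := hy
    refine ⟨s₁ * s₂, s₂ • a₁ + s₁ • a₂, by rw [map_mul]; exact mul_ne_zero h1 h2, ?_⟩
    rw [tmul_add, tmul_smul, tmul_smul, ← e1, ← e2, map_mul, smul_add]
    simp only [← algebraMap_smul p.ResidueField s₁, ← algebraMap_smul p.ResidueField s₂, smul_smul,
      mul_comm (algebraMap R p.ResidueField s₂)]

variable [Module.Finite R M] [Module.Projective R M]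

theorem exists_basis_away (p : Ideal R) [p.IsPrime] {ι : Type} [Fintype ι] (v : ι → M)
    (b : Module.Basis ι p.ResidueField (p.ResidueField ⊗[R] M))
    (hb : ∀ i, b i = (1 : p.ResidueField) ⊗ₜ[R] v i) :
    ∃ g : R, g ∉ p ∧ ∀ g' : R, g ∣ g' →
      ∃ c : Module.Basis ι (Localization.Away g') (Localization.Away g' ⊗[R] M),
        ∀ i, c i = (1 : Localization.Away g') ⊗ₜ[R] v i := by
  classical
  haveI : Module.FinitePresentation R M := Module.finitePresentation_of_projective R M
  let Rp := Localization.AtPrime p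
  let e := AlgebraTensorModule.cancelBaseChange R Rp p.ResidueField p.ResidueField M
  let vp : ι → Rp ⊗[R] M := fun i => (1 : Rp) ⊗ₜ[R] v i
  have he : ∀ i, e ((1 : p.ResidueField) ⊗ₜ[Rp] vp i) = b i := fun i => by
    simp [e, vp, hb]
  let b' := b.map e.symm
  have hb' : ∀ i, (1 : p.ResidueField) ⊗ₜ[Rp] vp i = b' i := fun i => by
    rw [Module.Basis.map_apply, ← he, LinearEquiv.symm_apply_apply]
  haveI : Module.FinitePresentation Rp (Rp ⊗[R] M) := inferInstance
  have hcomp : TensorProduct.mk Rp (IsLocalRing.ResidueField Rp) (Rp ⊗[R] M) 1 ∘ vp = b' :=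
    funext hb'
  obtain ⟨bp, hbp⟩ := Module.exists_basis_of_basis_baseChange vp
    (by rw [hcomp]; exact b'.linearIndependent) (by rw [hcomp]; exact b'.span_eq)
    (Module.Flat.rTensor_preserves_injective_linearMap _ Subtype.val_injective)
  let φ : (ι → R) →ₗ[R] M := Fintype.linearCombination R v
  have hφp : Function.Bijective (φ.baseChange Rp) := by
    let bc := Algebra.TensorProduct.basis Rp (Pi.basisFun R ι)
    have hφe : φ.baseChange Rp = (bc.equiv bp (Equiv.refl ι)).toLinearMap := bc.ext fun i => by
      rw [LinearEquiv.coe_coe, Module.Basis.equiv_apply, Equiv.refl_apply, hbp]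
      simp [bc, φ, vp, Fintype.linearCombination_apply_single]
    rw [hφe]
    exact (bc.equiv bp (Equiv.refl ι)).bijective
  have hmapeq : ∀ (S : Submonoid R) (A : Type u) [CommRing A] [Algebra R A] [IsLocalization S A],
      ⇑(IsLocalizedModule.map S (TensorProduct.mk R A (ι → R) 1) (TensorProduct.mk R A M 1) φ) =
        ⇑(φ.baseChange A) := by
    intro S A _ _ _
    have h : IsLocalizedModule.map S (TensorProduct.mk R A (ι → R) 1) (TensorProduct.mk R A M 1) φ =
        (φ.baseChange A).restrictScalars R := by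
      refine IsLocalizedModule.ext S (TensorProduct.mk R A (ι → R) 1)
        (IsLocalizedModule.map_units (S := S) (TensorProduct.mk R A M 1)) ?_
      rw [IsLocalizedModule.map_comp]
      exact LinearMap.ext fun x => by simp
    exact congrArg DFunLike.coe h
  have h1 : Function.Bijective (IsLocalizedModule.map p.primeCompl
      (TensorProduct.mk R Rp (ι → R) 1) (TensorProduct.mk R Rp M 1) φ) := by
    rw [hmapeq p.primeCompl Rp]
    exact hφp
  obtain ⟨g, hg, hgb⟩ := exists_bijective_map_powers p.primeCompl
    (TensorProduct.mk R Rp (ι → R) 1) (TensorProduct.mk R Rp M 1) φ h1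
  refine ⟨g, hg, fun g' hdvd => ?_⟩
  have h2 := (IsLocalizedModule.map_bijective_iff_localizedModuleMap_bijective
    (TensorProduct.mk R (Localization.Away g') (ι → R) 1)
    (TensorProduct.mk R (Localization.Away g') M 1)).mpr (hgb g' hdvd)
  rw [hmapeq (Submonoid.powers g') (Localization.Away g')] at h2
  refine ⟨(Algebra.TensorProduct.basis (Localization.Away g') (Pi.basisFun R ι)).map
    (LinearEquiv.ofBijective _ h2), fun i => ?_⟩
  simp [φ, Fintype.linearCombination_apply_single]

end H18Az.Spread
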